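import Cfsg.Agent.Lib.KnownB.U62Thompson.Orbit
import Cfsg.Prelude.Def_CaseTheorems

/-!
The Thompson subgroup in a double cover of `PSU₆(2)` that is the centraliser of an involution.
-/

set_option autoImplicit false
set_option maxRecDepth 20000

noncomputable section

namespace CfsgLib.KnownB.U62Thompson

open Matrix CfsgLib.Classical CfsgLib.Classical.Unitary CfsgLib.Spor CfsgLib.MultSU CfsgLib.KnownB.U62Mult

universe u

theorem Mdl.transfer {F : Type} [Field F] {e : QField →+* F} {σ : F →+* F} [Finite F] {hF : Nat.card F = 2 ^ 2}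
    {h : UFrob σ 2} {H₀ : Type} [Group H₀] {H : Type u} [Group H] (η : H₀ ≃* H)
    {τ : H →* Cfsg.PSU 6 F 2} {δ : H} {c : ℕ} {E : ℕ → H₀}
    (M : Mdl e hF h (τ.comp η.toMonoidHom) (η.symm δ) c E) : Mdl e hF h τ δ c (fun m => η (E m)) where
  surj y := by
    obtain ⟨x, hx⟩ := M.surj y
    exact ⟨η x, hx⟩
  ker x := by
    have := M.ker (η.symm x)
    simpa [MulEquiv.symm_apply_eq] using this
  ord := by rw [← M.ord, MulEquiv.orderOf_eq]
  central x := by
    have := congrArg η (M.central (η.symm x))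
    simpa using this
  lt := M.lt
  mul a b := by rw [← map_mul, M.mul]
  conj w v hok K hK m := by
    have := congrArg η (M.conj w v hok (η.symm K) (by simpa using hK) m)
    simpa using this
  map m := M.map m
  z_one := by rw [M.z_one, map_one]
  d_eq := by rw [M.d_eq, MulEquiv.apply_symm_apply]

/-- The statement, for the centraliser of `d`. -/
theorem main {G : Type u} [Group G] [Finite G] (d : G) (hd : orderOf d = 2)
    (hq : Cfsg.IsQuasisimple ↥(Subgroup.centralizer ({d} : Set G)))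
    [hzn : ((Subgroup.zpowers d).subgroupOf (Subgroup.centralizer ({d} : Set G))).Normal]
    (K : Type) [Field K] [Fintype K] (hK : Fintype.card K = 4)
    (e : ↥(Subgroup.centralizer ({d} : Set G)) ⧸ (Subgroup.zpowers d).subgroupOf (Subgroup.centralizer ({d} : Set G))
      ≃* Cfsg.PSU 6 K 2)
    (hnwc : ∃ g : G, g * d * g⁻¹ ∈ Subgroup.centralizer ({d} : Set G) ∧ g * d * g⁻¹ ≠ d)
    (S : Sylow 2 ↥(Subgroup.centralizer ({d} : Set G))) (A : Subgroup G)
    (hA : A = (Cfsg.thompsonSubgroupOf 2 (S : Subgroup ↥(Subgroup.centralizer ({d} : Set G)))).map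
      (Subgroup.centralizer ({d} : Set G)).subtype) :
    Cfsg.IsElementaryAbelian 2 A ∧ Nat.card A = 2 ^ 10 ∧ Set.ncard {x : G | x ∈ A ∧ IsConj d x} = 22 ∧
      ∀ x ∈ A, ∀ y ∈ A, IsConj d x → IsConj d y → ∃ n ∈ Subgroup.normalizer (A : Set G), n * x * n⁻¹ = y := by
  have hF' : Nat.card K = 2 ^ 2 := by rw [Nat.card_eq_fintype_card, hK]; norm_num
  obtain ⟨σ, hσ⟩ := exists_uFrob hF'
  have eK : QField →+* K := (FiniteField.ringEquivOfCardEq (K := QField) (K' := K) (by rw [hK]; rfl)).toRingHom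
  have hmem : d ∈ Subgroup.centralizer ({d} : Set G) := Subgroup.mem_centralizer_singleton_iff.2 rfl
  obtain ⟨C, hC⟩ : ∃ C, C = Subgroup.centralizer ({d} : Set G) := ⟨_, rfl⟩
  subst hC
  obtain ⟨τ, hτ⟩ : ∃ τ : ↥(Subgroup.centralizer ({d} : Set G)) →* Cfsg.PSU 6 K 2,
      τ = e.toMonoidHom.comp (QuotientGroup.mk' _) := ⟨_, rfl⟩
  obtain ⟨δ, hδ⟩ : ∃ δ : ↥(Subgroup.centralizer ({d} : Set G)), δ = ⟨d, hmem⟩ := ⟨_, rfl⟩
  have hord : orderOf δ = 2 := by rw [← Subgroup.orderOf_coe, hδ]; exact hd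
  have hcen : ∀ x, δ * x = x * δ := fun x => Subtype.ext (by
    rw [hδ, Subgroup.coe_mul, Subgroup.coe_mul]
    exact (Subgroup.mem_centralizer_singleton_iff.1 x.2).symm)
  have hker : ∀ x, τ x = 1 ↔ x = 1 ∨ x = δ := fun x => by
    rw [hτ]
    show e (QuotientGroup.mk x) = 1 ↔ _
    rw [map_eq_one_iff e e.injective, QuotientGroup.eq_one_iff, Subgroup.mem_subgroupOf, Subgroup.mem_zpowers_iff]
    constructor
    · rintro ⟨k, hk⟩
      rcases Int.emod_two_eq k with r | r
      · left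
        refine Subtype.ext ?_
        rw [← hk, ← zpow_mod_orderOf, hd]
        simp [r]
      · right
        refine Subtype.ext ?_
        rw [← hk, ← zpow_mod_orderOf, hd, hδ]
        simp [r]
    · rintro (rfl | rfl)
      · exact ⟨0, by simp⟩
      · exact ⟨1, by simp [hδ]⟩
  have hsurj : Function.Surjective τ := fun y => by
    obtain ⟨x, hx⟩ := QuotientGroup.mk_surjective (e.symm y)
    exact ⟨x, by rw [hτ]; show e (QuotientGroup.mk x) = y; rw [hx, MulEquiv.apply_symm_apply]⟩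
  obtain ⟨H₀, _, _, ⟨η⟩⟩ : ∃ (H₀ : Type) (_ : Group H₀) (_ : Finite H₀),
      Nonempty (H₀ ≃* ↥(Subgroup.centralizer ({d} : Set G))) :=
    ⟨Fin (Nat.card ↥(Subgroup.centralizer ({d} : Set G))), (Finite.equivFin _).symm.group, inferInstance,
      ⟨(Finite.equivFin ↥(Subgroup.centralizer ({d} : Set G))).symm.mulEquiv⟩⟩
  have hperf : commutator H₀ = ⊤ := by
    have h0 : commutator ↥(Subgroup.centralizer ({d} : Set G)) = ⊤ := (Group.isPerfect_def.1 hq.1 :)
    have h1 := congrArg (Subgroup.map η.symm.toMonoidHom) h0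
    rwa [commutator_def, Subgroup.map_commutator, Subgroup.map_top_of_surjective _ η.symm.surjective,
      ← commutator_def] at h1
  obtain ⟨c, E₀, M₀⟩ := exists_mdl eK hF' hσ hperf (τ.comp η.toMonoidHom) (hsurj.comp η.surjective) (η.symm δ)
    (by rw [MulEquiv.orderOf_eq]; exact hord)
    (fun x => η.injective (by simpa using hcen (η x)))
    (fun x => by rw [MonoidHom.comp_apply, hker]; simp [MulEquiv.eq_symm_apply])
  have M := M₀.transfer η
  obtain ⟨ι, hι⟩ : ∃ ι, ι = (Subgroup.centralizer ({d} : Set G)).subtype := ⟨_, rfl⟩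
  have hAs : AsCent ι δ d := ⟨hι ▸ Subgroup.subtype_injective _, fun g => by
    rw [hι, Subgroup.range_subtype, Subgroup.mem_centralizer_singleton_iff], by rw [hι, hδ]; rfl⟩
  obtain ⟨a, ha⟩ := thompson_eq M S
  rw [← hι, ha, Subgroup.map_map] at hA
  -- transport along the conjugation
  obtain ⟨γ, hγ⟩ : ∃ γ : G →* G, γ = (MulAut.conj (ι a)).toMonoidHom := ⟨_, rfl⟩
  have hγi : Function.Injective γ := by rw [hγ]; exact (MulAut.conj (ι a)).injective
  have hA' : A = (M.A.map ι).map γ := by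
    rw [hA, Subgroup.map_map]
    congr 1
    ext x
    rw [hγ]
    simp
  have hγd : ∀ x : G, IsConj x (γ x) := fun x => isConj_iff.2 ⟨ι a, by rw [hγ]; simp⟩
  have hinj : Function.Injective ι := hAs.inj
  refine ⟨?_, ?_, ?_, ?_⟩
  · rw [hA']
    refine ⟨⟨⟨?_⟩⟩, ?_⟩
    · rintro ⟨_, _, ⟨x, hx, rfl⟩, rfl⟩ ⟨_, _, ⟨y, hy, rfl⟩, rfl⟩
      refine Subtype.ext ?_
      show γ (ι x) * γ (ι y) = γ (ι y) * γ (ι x)
      rw [← map_mul, ← map_mul, ← map_mul, ← map_mul, M.comm_A hx hy]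
    · rintro _ ⟨_, ⟨x, hx, rfl⟩, rfl⟩
      rw [← map_pow, ← map_pow, M.elem_A.2 x hx, map_one, map_one]
  · rw [hA', Subgroup.card_map_of_injective hγi, Subgroup.card_map_of_injective hinj, M.card_A]
    norm_num
  · have hset : {x : G | x ∈ A ∧ IsConj d x} = γ '' {x : G | x ∈ M.A.map ι ∧ IsConj d x} := by
      rw [hA']
      ext y
      constructor
      · rintro ⟨⟨x, hx, rfl⟩, hy⟩
        exact ⟨x, ⟨hx, hy.trans (hγd x).symm⟩, rfl⟩
      · rintro ⟨x, ⟨hx, hxd⟩, rfl⟩
        exact ⟨Subgroup.mem_map_of_mem γ hx, hxd.trans (hγd x)⟩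
    rw [hset, Set.ncard_image_of_injective _ hγi]
    refine conj_count M hAs ?_
    obtain ⟨g, hg1, hg2⟩ := hnwc
    exact ⟨g, by rw [hι, Subgroup.range_subtype]; exact hg1, hg2⟩
  · rw [hA']
    rintro _ ⟨x, hx, rfl⟩ _ ⟨y, hy, rfl⟩ hdx hdy
    obtain ⟨n, hn, hnx⟩ := conj_trans M hAs hx hy (hdx.trans (hγd x).symm) (hdy.trans (hγd y).symm)
    refine ⟨γ n, ?_, by rw [← map_inv, ← map_mul, ← map_mul, hnx]⟩
    have : γ n ∈ (Subgroup.normalizer ((M.A.map ι : Subgroup G) : Set G)).map γ := Subgroup.mem_map_of_mem γ hn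
    have heq : (Subgroup.normalizer ((M.A.map ι : Subgroup G) : Set G)).map γ =
        Subgroup.normalizer (((M.A.map ι).map γ : Subgroup G) : Set G) := by
      rw [hγ]
      exact Subgroup.map_equiv_normalizer_eq _ _
    exact heq ▸ this

end CfsgLib.KnownB.U62Thompson
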