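import Cfsg.Agent.Lib.KnownB.U62Mult.TwoBound
import Cfsg.Agent.Lib.KnownB.U62Mult.Trie
import Cfsg.Agent.Lib.KnownB.U62Thompson.Data

/-!
Computable checks for the plane subgroup of the double covers of `PSU₆(2)`, as bit vectors.
-/

set_option autoImplicit false
set_option maxRecDepth 100000

noncomputable section

namespace CfsgLib.KnownB.U62Thompson

open CfsgLib.KnownB.U62Mult

/-- the coordinates of a point of the plane -/
def pvOf (p : ℕ) : ℕ := ((planeVec.find? fun q => Nat.beq q.1 p).getD (0, 0)).2

/-- the sum of the selected vectors -/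
def selX : List ℕ → ℕ → ℕ
  | [], _ => 0
  | a :: r, m => cond (Nat.beq (m % 2) 1) (Nat.xor a (selX r (m / 2))) (selX r (m / 2))

/-- the word of a vector -/
def mW (m : ℕ) : List ℕ := sel spanPts m

/-- the word of an element of the complement -/
def tW (t : ℕ) : List ℕ := rootSel rootWords t

/-- images of the basis under an element of the complement -/
def tVec (t : ℕ) : List ℕ := rootVec.getD t []

/-- the displacement by an element of the complement -/
def dT (t m : ℕ) : ℕ := Nat.xor m (selX (tVec t) m)

/-- the vectors of the identity -/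
def inK0 (k : ℕ) : Bool := Nat.beq k 0 || (Nat.beq k 876 || (Nat.beq k 1310 || Nat.beq k 1650))

/-- the two vectors of the kernel -/
def inZ (z k : ℕ) : Bool := Nat.beq k 0 || Nat.beq k z

/-- the representative modulo the kernel -/
def canZ (z m : ℕ) : ℕ := cond (Nat.ble m (Nat.xor m z)) m (Nat.xor m z)

/-- the coordinates follow the lines -/
def pvSteps : List (List ℕ × List ℕ) → Bool
  | [] => true
  | q :: r => Nat.beq (pvOf (q.1.getD 4 0)) (Nat.xor (Nat.xor (Nat.xor (pvOf (q.1.getD 0 0)) (pvOf (q.1.getD 1 0)))
      (pvOf (q.1.getD 2 0))) (pvOf (q.1.getD 3 0))) && pvSteps r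

/-- the images of the basis under a word -/
def imgOK (w v : List ℕ) : Bool :=
  isoW w && Nat.beq v.length 11 && (List.range 11).all fun i =>
    plane0.any fun q => moves w (spanPts.getD i 0) q && Nat.beq (pvOf q) (v.getD i 0)

/-- the word preserves the plane -/
def planeOK (w : List ℕ) : Bool := plane0.all fun p => plane0.any fun q => moves w p q

/-- one product in the Sylow subgroup -/
def mulOK (t j : ℕ) : Bool :=
  let q := (rootMul.getD t []).getD j (0, 0)
  Nat.blt q.1 2048 && Nat.blt q.2 64 && eqW (tW t ++ rootWords.getD j []) (mW q.1 ++ tW q.2)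

/-- an element of the complement has order two modulo the plane only if listed -/
def sqOK (t : ℕ) : Bool :=
  Nat.beq t 0 || invT.any (Nat.beq t) || !Nat.beq (yKey (tW t ++ tW t)) (yKey [])

/-- bits of a list -/
def bitsL : List ℕ → ℕ
  | [] => 0
  | a :: r => Nat.lor (Nat.shiftLeft 1 a) (bitsL r)

/-- the index of a listed involution -/
def fixRow (i : ℕ) : List (ℕ × ℕ × ℕ) := fixT.getD i []

/-- all fixed vectors of a listed involution are listed -/
def fixOK (i : ℕ) : Bool :=
  forceN (bitsL ((fixRow i).map Prod.fst)) fun b =>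
    (List.range 2048).all fun m => !inK0 (dT (invT.getD i 0) m) || b.testBit m

/-- every listed vector reduces to a representative -/
def redOK (i : ℕ) : Bool :=
  (fixRow i).all fun e => Nat.blt e.1 2048 && Nat.blt e.2.1 2048 && Nat.blt e.2.2 2 &&
    inK0 (Nat.xor (Nat.xor e.1 (dT (invT.getD i 0) e.2.1)) ((repT.getD i []).getD e.2.2 (0, 0, 0)).1)

/-- the representatives are moved into the plane -/
def repOK (i : ℕ) : Bool :=
  Nat.beq (repT.getD i []).length 2 && (repT.getD i []).all fun e =>
    Nat.blt e.1 2048 && Nat.blt e.2.2 2048 && Nat.beq (hm e.2.1 e.2.1) 0 &&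
      eqW ([e.2.1] ++ mW e.1 ++ tW (invT.getD i 0) ++ [e.2.1]) (mW e.2.2)

/-- the fixed vectors of a listed involution, one of each class -/
def fixZ (z i : ℕ) : List ℕ :=
  ((fixRow i).filter fun e => inZ z (dT (invT.getD i 0) e.1) && Nat.beq (canZ z e.1) e.1).map Prod.fst

/-- the bounds on fixed vectors -/
def fixBound (z : ℕ) : Bool :=
  (List.range 27).all fun i => forceN (bitsL (fixZ z i)) fun b =>
    Nat.ble (fixZ z i).length 64 &&
      (List.range i).all fun j => Nat.ble ((fixZ z j).filter fun m => b.testBit m).length 32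

/-- the growth of an orbit -/
def growOK (z acc : ℕ) : List (ℕ × ℕ × ℕ) → ℕ → Bool
  | [], B => Nat.beq acc B
  | (y, x, g) :: r, B => acc.testBit x && Nat.blt g 7 &&
      Nat.beq (canZ z (selX (genVec.getD g []) x)) y && growOK z (acc ||| (1 <<< y)) r B

/-- the orbits of a case -/
def orbs (c : ℕ) : List (ℕ × ℕ × List (ℕ × ℕ × ℕ)) := orbT.getD c []

/-- the kernel of a case -/
def zOf (c : ℕ) : ℕ := [876, 1310, 1650].getD c 0

/-- the image of the involution in a case -/
def dOf (c : ℕ) : ℕ := [1310, 876, 876].getD c 0

/-- members of an orbit -/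
def orbBits (c i : ℕ) : ℕ := ((orbs c).getD i (0, 0, [])).2.1

/-- the root of an orbit -/
def orbRoot (c i : ℕ) : ℕ := ((orbs c).getD i (0, 0, [])).1

/-- the orbit checks of a case -/
def orbCheck (c : ℕ) : Bool :=
  (List.range 5).all fun i =>
    let o := (orbs c).getD i (0, 0, [])
    growOK (zOf c) (1 <<< o.1) o.2.2 o.2.1 && Nat.blt o.1 2048

/-- every class is accounted for -/
def coverCheck (c : ℕ) : Bool :=
  forceN (orbBits c 0 ||| orbBits c 1 ||| orbBits c 2 ||| orbBits c 3 ||| orbBits c 4 ||| 1 ||| (1 <<< dOf c))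
    fun U => (List.range 2048).all fun m => U.testBit (canZ (zOf c) m)

/-- squares in the first, second and fourth orbit -/
def sqCheck (c : ℕ) : Bool :=
  [0, 1, 3].all fun i => (sqT.getD c []).any fun e => Nat.beq e.1 i && Nat.blt e.2.1 6 && Nat.blt e.2.2 2048 &&
    (orbBits c i).testBit (canZ (zOf c) (Nat.xor e.2.2 (selX (genVec.getD e.2.1 []) e.2.2)))

/-- representatives of a set of classes given by its bits -/
def elemsOf (B : ℕ) : List ℕ := (List.range 2048).filter fun m => B.testBit m

/-- sums inside a set of classes -/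
def pairCount (z B x : ℕ) : ℕ := ((elemsOf B).filter fun o => B.testBit (canZ z (Nat.xor o x))).length

/-- the large set is not an orbit -/
def countCheck (c : ℕ) : Bool :=
  [(1 <<< dOf c) ||| orbBits c 2, (1 <<< dOf c) ||| orbBits c 2 ||| orbBits c 4].all fun B =>
    forceN B fun B => !Nat.beq (pairCount (zOf c) B (dOf c)) (pairCount (zOf c) B (orbRoot c 2))

/-- the small set -/
def smallCheck (c : ℕ) : Bool :=
  Nat.beq (elemsOf ((1 <<< dOf c) ||| orbBits c 4)).length 22 &&
    (elemsOf ((1 <<< dOf c) ||| orbBits c 4)).all (fun m => Nat.beq (canZ (zOf c) m) m) &&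
    (elemsOf (orbBits c 2)).all fun m => Nat.beq (canZ (zOf c) m) m

theorem plane_vec_ok : pvSteps lineSteps = true ∧
    ((List.range 11).all fun i => Nat.beq (pvOf (spanPts.getD i 0)) (2 ^ i)) = true ∧
    (plane0.all fun p => Nat.blt (pvOf p) 2048) = true ∧ spanPts.length = 11 := by
  refine ⟨?_, ?_, ?_, ?_⟩ <;> decide +kernel

theorem gen_vec_ok : ((List.range 7).all fun g => imgOK ((rootWords ++ [moverW]).getD g []) (genVec.getD g [])
    && planeOK ((rootWords ++ [moverW]).getD g [])) = true := by decide +kernel

theorem root_vec_ok : ((List.range 64).all fun t => imgOK (tW t) (tVec t) && planeOK (tW t) && sqOK t) = true := by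
  decide +kernel

theorem key_ok : ((List.range 2048).all fun m => !eqW (mW m) [] || inK0 m) = true ∧
    eqW (mW 876) [] = true ∧ eqW (mW 1310) [] = true ∧ eqW (mW 1650) [] = true := by
  refine ⟨?_, ?_, ?_, ?_⟩ <;> decide +kernel

theorem mul_ok : ((List.range 64).all fun t => (List.range 6).all fun j => mulOK t j) = true := by
  decide +kernel

theorem inv_ok : invT.length = 27 ∧
    (invT.all fun t => Nat.blt t 64 && !Nat.beq t 0 && eqW (tW t ++ tW t) []) = true := by
  refine ⟨?_, ?_⟩ <;> decide +kernel

theorem red_ok : ((List.range 27).all fun i => redOK i && repOK i) = true := by decide +kernel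

theorem fix_ok_0 : ((List.range' 0 9).all fixOK) = true := by decide +kernel

theorem fix_ok_9 : ((List.range' 9 9).all fixOK) = true := by decide +kernel

theorem fix_ok_18 : ((List.range' 18 9).all fixOK) = true := by decide +kernel

theorem bound_ok : ((List.range 3).all fun c => fixBound (zOf c)) = true := by decide +kernel

theorem orb_ok : ((List.range 3).all fun c => orbCheck c && coverCheck c && sqCheck c) = true := by
  decide +kernel

theorem count_ok : ((List.range 3).all fun c => countCheck c && smallCheck c) = true := by decide +kernel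

end CfsgLib.KnownB.U62Thompson
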