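import Cfsg.Agent.Lib.KnownB.U62Thompson.Model

/-!
The plane subgroup in a perfect double cover of `PSU₆(2)`.
-/

set_option autoImplicit false
set_option maxRecDepth 20000

noncomputable section

namespace CfsgLib.KnownB.U62Thompson

open Matrix CfsgLib.Classical CfsgLib.Classical.Unitary CfsgLib.Spor CfsgLib.MultSU CfsgLib.KnownB.U62Mult

universe u w

variable {F : Type u} [Field F] (e : QField →+* F) {σ : F →+* F} [Finite F] (hF : Nat.card F = 2 ^ 2)
  (h : UFrob σ 2)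

/-- the class of an element of `SU₆(2)` -/
abbrev cls : Cfsg.SU 6 F 2 →* Cfsg.PSU 6 F 2 := QuotientGroup.mk' (Subgroup.center (Cfsg.SU 6 F 2))

/-- the plane subgroup in coordinates inside a group over `PSU₆(2)` -/
structure Mdl {H : Type w} [Group H] (τ : H →* Cfsg.PSU 6 F 2) (δ : H) (c : ℕ) (E : ℕ → H) : Prop where
  surj : Function.Surjective τ
  ker : ∀ x, τ x = 1 ↔ x = 1 ∨ x = δ
  ord : orderOf δ = 2
  central : ∀ x, δ * x = x * δ
  lt : c < 3
  mul : ∀ a b, E a * E b = E (a ^^^ b)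
  conj : ∀ w v, ActOK w v → ∀ K, τ K = cls (gW e hF h w) → ∀ m, K * E m * K⁻¹ = E (selX v m)
  map : ∀ m, τ (E m) = cls (gW e hF h (mW m))
  z_one : E (zOf c) = 1
  d_eq : E (dOf c) = δ

theorem eqW_of_gW {w w' : List ℕ} (hw : isoW w = true) (hw' : isoW w' = true)
    (hg : gW e hF h w = gW e hF h w') : eqW w w' = true := by
  simp only [eqW, List.all_eq_true, Nat.beq_eq]
  intro b _
  rw [← vec_inj e, ← gW_vec e hF h hw, ← gW_vec e hF h hw', hg]

include hF h in
theorem cls_eq_one {g : Cfsg.SU 6 F 2} (hg : g ∈ sylGrp e hF h) (h1 : cls g = 1) : g = 1 := by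
  have hc : g ∈ Subgroup.center (Cfsg.SU 6 F 2) := (QuotientGroup.eq_one_iff g).1 h1
  obtain ⟨n, hn⟩ := sylGrp_isPGroup e hF h ⟨g, hg⟩
  have hn' : g ^ 2 ^ n = 1 := congrArg Subtype.val hn
  have h3 : g ^ 3 = 1 := by
    have hk : Nat.card (Subgroup.center (Cfsg.SU 6 F 2)) = 3 := by
      rw [card_center_SU hF (by norm_num)]; norm_num
    have := pow_card_eq_one' (x := (⟨g, hc⟩ : Subgroup.center (Cfsg.SU 6 F 2)))
    rw [hk] at this
    exact congrArg Subtype.val this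
  have hd := Nat.dvd_gcd (orderOf_dvd_of_pow_eq_one hn') (orderOf_dvd_of_pow_eq_one h3)
  rw [Nat.Coprime.gcd_eq_one (Nat.Coprime.pow_left n (by norm_num))] at hd
  exact orderOf_eq_one_iff.1 (Nat.dvd_one.1 hd)

theorem gW_mW_mem (m : ℕ) : gW e hF h (mW m) ∈ planeGrp e hF h plane0 :=
  gW_mem_plane e hF h fun p hp => spanPts_mem (sel_subset _ _ p hp)

theorem plane_le_syl : planeGrp e hF h plane0 ≤ sylGrp e hF h := fun _ hx =>
  Subgroup.mem_sup_left (Subgroup.mem_sup_left hx)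

theorem gW_tW_mem (t : ℕ) : gW e hF h (tW t) ∈ sylGrp e hF h := by
  rw [tW, gW_rootSel]
  refine list_prod_mem fun x hx => ?_
  obtain ⟨w, hw, rfl⟩ := List.mem_map.1 (sel_subset _ _ x hx)
  rw [← List.take_append_drop 4 rootWords] at hw
  rcases List.mem_append.1 hw with hw | hw
  · exact Subgroup.mem_sup_left (Subgroup.mem_sup_right (Subgroup.subset_closure (List.mem_map_of_mem hw)))
  · exact Subgroup.mem_sup_right (Subgroup.subset_closure (List.mem_map_of_mem hw))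

include e hF h in
/-- A perfect double cover has such coordinates. -/
theorem exists_mdl {H : Type u} [Group H] [Finite H] (hperf : commutator H = ⊤)
    (τ : H →* Cfsg.PSU 6 F 2) (hsurj : Function.Surjective τ) (δ : H) (hord : orderOf δ = 2)
    (hcen : ∀ x, δ * x = x * δ) (hker : ∀ x, τ x = 1 ↔ x = 1 ∨ x = δ) :
    ∃ (c : ℕ) (E : ℕ → H), Mdl e hF h τ δ c E := by
  obtain ⟨P, hP⟩ : ∃ P : Subgroup (H × Cfsg.SU 6 F 2),
      P = (τ.comp (MonoidHom.fst _ _)).eqLocus (cls.comp (MonoidHom.snd _ _)) := ⟨_, rfl⟩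
  have hPm : ∀ x, x ∈ P ↔ τ x.1 = cls x.2 := fun x => by rw [hP]; rfl
  obtain ⟨pr, hprd⟩ : ∃ pr : P →* Cfsg.SU 6 F 2, pr = (MonoidHom.snd _ _).comp P.subtype := ⟨_, rfl⟩
  obtain ⟨pl, hpld⟩ : ∃ pl : P →* H, pl = (MonoidHom.fst _ _).comp P.subtype := ⟨_, rfl⟩
  have hpra : ∀ x : P, pr x = x.1.2 := fun x => by rw [hprd]; rfl
  have hpla : ∀ x : P, pl x = x.1.1 := fun x => by rw [hpld]; rfl
  have hk2 : ∀ x : P, pr x = 1 → pl x = 1 ∨ pl x = δ := fun x hx => by
    rw [hpla, ← hker, (hPm _).1 x.2, ← hpra, hx, map_one]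
  have hce : IsCE pr := by
    refine ⟨fun g => ?_, fun x hx => Subgroup.mem_center_iff.2 fun y => ?_⟩
    · obtain ⟨a, ha⟩ := hsurj (cls g)
      exact ⟨⟨(a, g), (hPm _).2 ha⟩, by rw [hpra]⟩
    · have h2 : x.1.2 = 1 := by rw [← hpra]; exact hx
      refine Subtype.ext (Prod.ext ?_ ?_)
      · show y.1.1 * x.1.1 = x.1.1 * y.1.1
        rcases hk2 x hx with h1 | h1 <;> rw [hpla] at h1 <;> rw [h1]
        · rw [mul_one, one_mul]
        · exact (hcen _).symm
      · show y.1.2 * x.1.2 = x.1.2 * y.1.2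
        rw [h2, mul_one, one_mul]
  have hδ2 : δ ^ 2 = 1 := hord ▸ pow_orderOf_eq_one δ
  have hp2 : IsPGroup 2 pr.ker := fun x => ⟨1, Subtype.ext (Subtype.ext (Prod.ext (by
    show (x.1.1.1) ^ 2 ^ 1 = 1
    rcases hk2 x.1 x.2 with h1 | h1 <;> rw [hpla] at h1 <;> rw [h1, pow_one]
    · exact one_pow _
    · exact hδ2) (by
    show (x.1.1.2) ^ 2 ^ 1 = 1
    rw [← hpra, MonoidHom.mem_ker.1 x.2, one_pow])))⟩
  obtain ⟨L, hL⟩ := exists_lifts e hF h hce hp2
  obtain ⟨E, hE⟩ : ∃ E : ℕ → H, E = fun m => pl (el e hF h L m) := ⟨_, rfl⟩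
  have hEm : ∀ a b, E a * E b = E (a ^^^ b) := fun a b => by
    simp only [hE]; rw [← map_mul, el_mul e hF h hL]
  have hmap : ∀ m, τ (E m) = cls (gW e hF h (mW m)) := fun m => by
    simp only [hE]
    rw [hpla, (hPm _).1 (el e hF h L m).2, ← hpra, map_el e hF h hL]
  have hconj : ∀ w v, ActOK w v → ∀ K, τ K = cls (gW e hF h w) → ∀ m, K * E m * K⁻¹ = E (selX v m) := by
    intro w v hwv K hK m
    have := el_conj e hF h hce hL hwv (K := ⟨(K, gW e hF h w), (hPm _).2 hK⟩) (by rw [hpra]) m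
    simp only [hE]
    rw [← this, map_mul, map_mul, map_inv, hpla ⟨(K, gW e hF h w), _⟩]
  -- the involution is in the image
  have hsd : ∃ k < 2048, E k = δ := by
    have hpl : Function.Surjective pl := fun a => by
      obtain ⟨g, hg⟩ := QuotientGroup.mk'_surjective (Subgroup.center (Cfsg.SU 6 F 2)) (τ a)
      exact ⟨⟨(a, g), (hPm _).2 hg.symm⟩, by rw [hpla]⟩
    have hzc : δ ∈ (commutator P).map pl := by
      rw [commutator_def, Subgroup.map_commutator, Subgroup.map_top_of_surjective _ hpl, ← commutator_def,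
        hperf]
      trivial
    obtain ⟨y, hy, hyd⟩ := hzc
    have h3 : pr (y ^ 3) = 1 := by
      have hc : y.1.2 ∈ Subgroup.center (Cfsg.SU 6 F 2) := by
        refine (QuotientGroup.eq_one_iff _).1 ?_
        have := (hPm _).1 y.2
        rw [← hpla, hyd, (hker δ).2 (Or.inr rfl)] at this
        exact this.symm
      have hk : Nat.card (Subgroup.center (Cfsg.SU 6 F 2)) = 3 := by
        rw [card_center_SU hF (by norm_num)]; norm_num
      have := pow_card_eq_one' (x := (⟨y.1.2, hc⟩ : Subgroup.center (Cfsg.SU 6 F 2)))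
      rw [hk] at this
      rw [map_pow, hpra]
      exact congrArg Subtype.val this
    obtain ⟨k, hk, hke⟩ := mem_liftGrp e hF h hce hL
      (comm_ker_le e hF h hce hL hp2 (pow_mem hy 3) h3)
    refine ⟨k, hk, ?_⟩
    simp only [hE]
    rw [← hke, map_pow, hyd, pow_succ, hδ2, one_mul]
  obtain ⟨k, hk, hkd⟩ := hsd
  have hδ1 : δ ≠ 1 := fun e1 => by rw [e1, orderOf_one] at hord; omega
  have hgk : gW e hF h (mW k) = 1 := by
    refine cls_eq_one e hF h (plane_le_syl e hF h (gW_mW_mem e hF h k)) ?_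
    rw [← hmap, hkd, (hker δ).2 (Or.inr rfl)]
  have hk0 : inK0 k = true := by
    have h1 := List.all_eq_true.1 key_ok.1 k (List.mem_range.2 hk)
    rw [eqW_of_gW e hF h (w' := []) (isoW_mW k) rfl (hgk.trans (gW_nil e hF h).symm)] at h1
    simpa using h1
  have hval : ∀ m, eqW (mW m) [] = true → E m = 1 ∨ E m = δ := fun m hm => by
    rw [← hker, hmap, gW_eq e hF h (w' := []) (isoW_mW m) rfl hm, gW_nil, map_one]
  have hE0 : E 0 = 1 := by simp only [hE]; rw [el_zero, map_one]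
  have hx : E 876 * E 1310 = E 1650 := hEm _ _
  obtain ⟨h876, h1310, h1650⟩ := key_ok.2
  have hdd : δ * δ = 1 := by rw [← pow_two]; exact hδ2
  suffices hc : ∃ c < 3, E (zOf c) = 1 ∧ E (dOf c) = δ by
    obtain ⟨c, hc, hz, hd⟩ := hc
    exact ⟨c, E, hsurj, hker, hord, hcen, hc, hEm, hconj, hmap, hz, hd⟩
  simp only [inK0, Bool.or_eq_true, Nat.beq_eq] at hk0
  rcases hval 876 h876 with a | a <;> rcases hval 1310 h1310 with b | b <;> rw [a, b] at hx
  · exfalso
    rw [one_mul] at hx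
    rcases hk0 with r | r | r | r <;> subst r
    exacts [hδ1 (hkd.symm.trans hE0), hδ1 (hkd.symm.trans a), hδ1 (hkd.symm.trans b),
      hδ1 (hkd.symm.trans hx.symm)]
  · exact ⟨0, by norm_num, a, b⟩
  · exact ⟨1, by norm_num, b, a⟩
  · rw [hdd] at hx
    exact ⟨2, by norm_num, hx.symm, a⟩

end CfsgLib.KnownB.U62Thompson
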