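import Cfsg.Agent.Lib.KnownB.U62Thompson.Code

/-!
The lifted plane group of a central extension of `SU₆(2)` in coordinates.
-/

set_option autoImplicit false
set_option maxRecDepth 20000

noncomputable section

namespace CfsgLib.KnownB.U62Thompson

open Matrix CfsgLib.Classical CfsgLib.Classical.Unitary CfsgLib.Spor CfsgLib.MultSU CfsgLib.KnownB.U62Mult
open scoped commutatorElement

universe u

theorem sel_xor {G : Type*} [Group G] : ∀ {l : List G}, InvComm l → ∀ m n : ℕ,
    (sel l m).prod * (sel l n).prod = (sel l (m ^^^ n)).prod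
  | [], _, _, _ => mul_one 1
  | a :: r, h, m, n => by
    have ih := sel_xor h.tail (m / 2) (n / 2)
    have ha : a * a = 1 := h.1 a List.mem_cons_self
    have ca := (h.commute_prod (m / 2)).eq
    have h2 : (m ^^^ n) / 2 = m / 2 ^^^ n / 2 := Nat.xor_div_two
    have h1 : (m ^^^ n) % 2 = (m % 2 + n % 2) % 2 := by
      rw [Nat.xor_mod_two_eq, Nat.add_mod]
    simp only [sel]
    rw [h1, h2]
    rcases Nat.mod_two_eq_zero_or_one m with hm | hm <;> rcases Nat.mod_two_eq_zero_or_one n with hn | hn <;>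
      simp only [hm, hn, zero_ne_one, one_ne_zero, if_false, if_true, List.prod_cons, Nat.reduceAdd, Nat.reduceMod]
    · exact ih
    · rw [← ih, ← mul_assoc, ← ca, mul_assoc]
    · rw [← ih, mul_assoc]
    · rw [← ih, mul_assoc, ← mul_assoc _ a, ← ca, mul_assoc a, ← mul_assoc a a, ha, one_mul]

theorem selX_lt : ∀ (v : List ℕ) (m : ℕ), (∀ a ∈ v, a < 2048) → selX v m < 2048
  | [], _, _ => by simp [selX]
  | a :: r, m, h => by
    have ih := selX_lt r (m / 2) fun b hb => h b (List.mem_cons_of_mem _ hb)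
    simp only [selX]
    cases Nat.beq (m % 2) 1
    · exact ih
    · exact Nat.xor_lt_two_pow (n := 11) (h a List.mem_cons_self) ih

theorem beq_eq_ite (m : ℕ) {α : Type*} (x y : α) :
    (cond (Nat.beq m 1) x y) = if m = 1 then x else y := by
  cases hb : Nat.beq m 1
  · rw [cond_false, if_neg fun e => ?_]
    subst e; exact absurd hb (by simp)
  · rw [cond_true, if_pos (Nat.eq_of_beq_eq_true hb)]

theorem spanPts_mem {p : ℕ} (hp : p ∈ spanPts) : p ∈ plane0 := by
  obtain ⟨q, hq, he⟩ := List.any_eq_true.1 (List.all_eq_true.1 steps_ok.2.1 p hp)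
  rwa [Nat.eq_of_beq_eq_true he]

theorem isoW_mW (m : ℕ) : isoW (mW m) = true :=
  isoW_of_mem planes_ok.1 fun p hp => spanPts_mem (sel_subset _ _ p hp)

theorem isoW_tW (t : ℕ) : isoW (tW t) = true := by
  have hr := root_ok.1
  simp only [tW, rootSel, isoW, List.all_flatten, List.all_eq_true] at hr ⊢
  exact fun w hw => hr w (sel_subset _ _ w hw)

theorem xor_lt {a b : ℕ} (ha : a < 2048) (hb : b < 2048) : a ^^^ b < 2048 :=
  Nat.xor_lt_two_pow (n := 11) ha hb

theorem planeVec_lt {p : ℕ} (hp : p ∈ plane0) : pvOf p < 2048 :=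
  Nat.le_of_ble_eq_true (List.all_eq_true.1 plane_vec_ok.2.2.1 p hp)

/-- what is checked of a word acting on the plane -/
def ActOK (w v : List ℕ) : Prop := imgOK w v = true ∧ planeOK w = true

theorem actOK_gen {g : ℕ} (hg : g < 7) : ActOK ((rootWords ++ [moverW]).getD g []) (genVec.getD g []) := by
  have := List.all_eq_true.1 gen_vec_ok g (List.mem_range.2 hg)
  simpa [ActOK] using this

theorem actOK_root {t : ℕ} (ht : t < 64) : ActOK (tW t) (tVec t) := by
  have := List.all_eq_true.1 root_vec_ok t (List.mem_range.2 ht)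
  simp only [Bool.and_eq_true] at this
  exact this.1

theorem ActOK.vec_lt {w v : List ℕ} (h : ActOK w v) : ∀ a ∈ v, a < 2048 := by
  intro a ha
  have h1 := h.1
  simp only [imgOK, Bool.and_eq_true, Nat.beq_eq, List.all_eq_true, List.any_eq_true, List.mem_range] at h1
  obtain ⟨i, hi, rfl⟩ := List.getElem_of_mem ha
  obtain ⟨q, hq, -, e⟩ := h1.2 i (h1.1.2 ▸ hi)
  rw [List.getD_eq_getElem _ _ hi] at e
  exact e ▸ planeVec_lt hq

theorem ActOK.iso {w v : List ℕ} (h : ActOK w v) : isoW w = true := by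
  have := h.1
  simp only [imgOK, Bool.and_eq_true] at this
  exact this.1.1

variable {F : Type u} [Field F] (e : QField →+* F) {σ : F →+* F} [Finite F] (hF : Nat.card F = 2 ^ 2)
  (h : UFrob σ 2)
variable {Γ : Type u} [Group Γ] [Finite Γ] {π : Γ →* Cfsg.SU 6 F 2} (hπ : IsCE π)
  {L : Cfsg.SU 6 F 2 → Γ} (hL : Lifts e hF h (π := π) L)

/-- the element of a vector -/
def el (L : Cfsg.SU 6 F 2 → Γ) (m : ℕ) : Γ := (sel (spanPts.map (lp e hF h L)) m).prod

include hL in
theorem invComm_span : InvComm (spanPts.map (lp e hF h L)) := by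
  have hc := invComm_lifts e hF h hL
  have hsub : ∀ a ∈ spanPts.map (lp e hF h L), a ∈ plane0.map (lp e hF h L) := fun a ha => by
    obtain ⟨p, hp, rfl⟩ := List.mem_map.1 ha
    exact List.mem_map_of_mem (spanPts_mem hp)
  exact ⟨fun a ha => hc.1 a (hsub a ha), fun a ha b hb => hc.2 a (hsub a ha) b (hsub b hb)⟩

include hL in
theorem el_mul (m n : ℕ) : el e hF h L m * el e hF h L n = el e hF h L (m ^^^ n) :=
  sel_xor (invComm_span e hF h hL) m n

theorem el_zero : el e hF h L 0 = 1 := by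
  show (sel (spanPts.map (lp e hF h L)) 0).prod = 1
  rw [sel_zero, List.prod_nil]

include hL in
theorem el_selX : ∀ (v : List ℕ) (m : ℕ), el e hF h L (selX v m) = (sel (v.map (el e hF h L)) m).prod
  | [], _ => el_zero e hF h
  | a :: r, m => by
    simp only [selX, List.map_cons, sel, beq_eq_ite]
    split_ifs with hm
    · rw [List.prod_cons, ← el_selX r, el_mul e hF h hL]; rfl
    · exact el_selX r _

include hL in
theorem map_el (m : ℕ) : π (el e hF h L m) = gW e hF h (mW m) := by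
  have hm := map_lw e hF h hL (w := mW m)
    fun p hp => isTv_plane0 e hF h (spanPts_mem (sel_subset _ _ p hp))
  rw [← hm]
  show π (sel (spanPts.map (lp e hF h L)) m).prod = _
  rw [sel_map]
  rfl

theorem el_basis {i : ℕ} (hi : i < 11) : el e hF h L (2 ^ i) = lp e hF h L (spanPts.getD i 0) := by
  have hs : ∀ i < 11, sel spanPts (2 ^ i) = [spanPts.getD i 0] := by decide +kernel
  show (sel (spanPts.map (lp e hF h L)) (2 ^ i)).prod = _
  rw [sel_map, hs i hi, List.map_singleton, List.prod_singleton]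

include hπ hL in
theorem step_prod {w : List ℕ} (hw : isoW w = true) {a b c d f : ℕ} (hpl : ∀ x ∈ [a, b, c, d, f], x ∈ plane0)
    (hmv : ∀ i < 5, moves w (line0.getD i 0) ([a, b, c, d, f].getD i 0) = true) :
    lp e hF h L a * lp e hF h L b * lp e hF h L c * lp e hF h L d * lp e hF h L f = 1 := by
  obtain ⟨J, hJ⟩ := hπ.surj (gW e hF h w)
  have himg : ∀ i < 5, J * L (tv e hF h (line0.getD i 0)) * J⁻¹ = L (tv e hF h ([a, b, c, d, f].getD i 0)) := by
    intro i hi
    have hm0 : line0.getD i 0 ∈ plane0 := (mem_line0 (by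
      rw [List.getD_eq_getElem _ _ (line0_ok.2.1.symm ▸ hi)]; exact List.getElem_mem _)).1
    have hm1 : [a, b, c, d, f].getD i 0 ∈ plane0 := hpl _ (by
      rw [List.getD_eq_getElem _ _ (by simpa using hi)]; exact List.getElem_mem _)
    obtain ⟨s, hs, e1⟩ := moves_spec e hF h hw (hmv i hi)
    rw [hL.conj J _ (isTv_plane0 e hF h hm0), hJ,
      conj_tv e hF h (isoSpan_spec planes_ok.1 hm0).1 (isoSpan_spec planes_ok.1 hm1).1 hs e1]
  have h0 := hL.line
  rw [show line0 = [80, 1280, 1360, 2640, 3920] from rfl] at h0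
  simp only [List.map_cons, List.map_nil, List.prod_cons, List.prod_nil, mul_one] at h0
  have h1 := congrArg (fun x => J * x * J⁻¹) h0
  simp only [mul_one, mul_inv_cancel] at h1
  have e0 := himg 0 (by norm_num)
  have e1 := himg 1 (by norm_num)
  have e2 := himg 2 (by norm_num)
  have e3 := himg 3 (by norm_num)
  have e4 := himg 4 (by norm_num)
  simp only [show line0 = [80, 1280, 1360, 2640, 3920] from rfl, List.getD_cons_zero, List.getD_cons_succ]
    at e0 e1 e2 e3 e4
  simp only [U62Mult.lp]; rw [ ← e0, ← e1, ← e2, ← e3, ← e4, ← h1]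
  group

include hπ hL in
theorem el_steps : ∀ (ls : List (List ℕ × List ℕ)) (known : List ℕ), stepsOK known ls = true →
    pvSteps ls = true → (∀ p ∈ known, p ∈ plane0 ∧ lp e hF h L p = el e hF h L (pvOf p)) →
      ∀ p ∈ plane0, lp e hF h L p = el e hF h L (pvOf p)
  | [], known, hok, _, hK, p, hp => by
    obtain ⟨q, hq, he⟩ := List.any_eq_true.1 (List.all_eq_true.1 hok p hp)
    rw [Nat.eq_of_beq_eq_true he]
    exact (hK q hq).2
  | (l, w) :: r, known, hok, hpv, hK, p, hp => by
    simp only [stepsOK, stepOK, Bool.and_eq_true, List.all_eq_true, List.any_eq_true, Nat.beq_eq,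
      List.mem_range] at hok
    obtain ⟨⟨⟨hw, hlen⟩, ⟨hpl, hkn⟩, hmv⟩, hrest⟩ := hok
    simp only [pvSteps, Bool.and_eq_true, Nat.beq_eq] at hpv
    refine el_steps r _ hrest hpv.2 (fun q hq => ?_) p hp
    rcases List.mem_cons.1 hq with rfl | hq
    · obtain ⟨a, b, c, d, f, rfl⟩ : ∃ a b c d f, l = [a, b, c, d, f] := by
        match l, hlen with
        | [a, b, c, d, f], _ => exact ⟨a, b, c, d, f, rfl⟩
      have hpl' : ∀ x ∈ [a, b, c, d, f], x ∈ plane0 := fun x hx => by
        obtain ⟨y, hy, rfl⟩ := hpl x hx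
        exact hy
      have hkn' : ∀ x ∈ [a, b, c, d], lp e hF h L x = el e hF h L (pvOf x) := fun x hx => by
        obtain ⟨y, hy, rfl⟩ := hkn x (by simpa using hx)
        exact (hK _ hy).2
      have hp1 := step_prod e hF h hπ hL hw hpl' hmv
      have hsq : lp e hF h L f * lp e hF h L f = 1 :=
        hL.sq _ (isTv_plane0 e hF h (hpl' f (by simp)))
      rw [mul_eq_one_iff_eq_inv, inv_eq_of_mul_eq_one_right hsq] at hp1
      have hv := hpv.1
      simp only [List.getD_cons_zero, List.getD_cons_succ] at hv ⊢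
      refine ⟨hpl' f (by simp), ?_⟩
      rw [hv, ← hp1, hkn' a (by simp), hkn' b (by simp), hkn' c (by simp), hkn' d (by simp),
        el_mul e hF h hL, el_mul e hF h hL, el_mul e hF h hL]
      rfl
    · exact hK q hq

include hπ hL in
/-- The lifts of the points in coordinates. -/
theorem lp_eq {p : ℕ} (hp : p ∈ plane0) : lp e hF h L p = el e hF h L (pvOf p) := by
  refine el_steps e hF h hπ hL _ _ steps_ok.1 plane_vec_ok.1 (fun q hq => ⟨spanPts_mem hq, ?_⟩) p hp
  obtain ⟨i, hi, rfl⟩ := List.getElem_of_mem hq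
  have hi' : i < 11 := plane_vec_ok.2.2.2 ▸ hi
  have h1 := Nat.eq_of_beq_eq_true (List.all_eq_true.1 plane_vec_ok.2.1 i (List.mem_range.2 hi'))
  rw [List.getD_eq_getElem _ _ hi] at h1
  rw [h1, el_basis e hF h hi', List.getD_eq_getElem _ _ hi]

include hπ hL in
/-- Conjugation in coordinates. -/
theorem el_conj {w v : List ℕ} (hok : ActOK w v) {K : Γ} (hK : π K = gW e hF h w) (m : ℕ) :
    K * el e hF h L m * K⁻¹ = el e hF h L (selX v m) := by
  have hiso := hok.iso
  have h1 := hok.1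
  simp only [imgOK, Bool.and_eq_true, Nat.beq_eq, List.all_eq_true, List.any_eq_true, List.mem_range] at h1
  obtain ⟨⟨-, hlen⟩, himg⟩ := h1
  rw [el_selX e hF h hL]
  show MulAut.conj K (sel (spanPts.map (lp e hF h L)) m).prod = _
  rw [map_list_prod, ← sel_map, List.map_map]
  refine congrArg (fun l => (sel l m).prod) (List.ext_getElem (by simp [plane_vec_ok.2.2.2, hlen]) fun i hi hi' => ?_)
  simp only [List.length_map] at hi hi'
  have hi11 : i < 11 := hlen ▸ hi'
  obtain ⟨q, hq, hm, hv⟩ := himg i hi11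
  rw [List.getD_eq_getElem _ _ hi] at hm
  rw [List.getD_eq_getElem _ _ hi'] at hv
  obtain ⟨s, hs, e1⟩ := moves_spec e hF h hiso hm
  have hpi : spanPts[i] ∈ plane0 := spanPts_mem (List.getElem_mem hi)
  simp only [List.getElem_map, Function.comp_apply, MulAut.conj_apply]
  rw [← hv, ← lp_eq e hF h hπ hL hq]; simp only [U62Mult.lp]
  refine (hL.conj K _ (isTv_plane0 e hF h hpi)).trans (congrArg L ?_)
  rw [hK, conj_tv e hF h (isoSpan_spec planes_ok.1 hpi).1 (isoSpan_spec planes_ok.1 hq).1 hs e1]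

include hπ hL in
theorem mem_liftGrp {x : Γ} (hx : x ∈ liftGrp e hF h L plane0) : ∃ m < 2048, x = el e hF h L m := by
  induction hx using Subgroup.closure_induction with
  | mem y hy =>
    obtain ⟨p, hp, rfl⟩ := List.mem_map.1 hy
    exact ⟨_, planeVec_lt hp, lp_eq e hF h hπ hL hp⟩
  | one => exact ⟨0, by norm_num, (el_zero e hF h).symm⟩
  | mul y z _ _ hy hz =>
    obtain ⟨a, ha, rfl⟩ := hy
    obtain ⟨b, hb, rfl⟩ := hz
    exact ⟨_, xor_lt ha hb, el_mul e hF h hL a b⟩
  | inv y _ hy =>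
    obtain ⟨a, ha, rfl⟩ := hy
    exact ⟨a, ha, inv_eq_of_mul_eq_one_right (by rw [el_mul e hF h hL, Nat.xor_self, el_zero])⟩

include hπ hL in
/-- The kernel inside the derived group lies in the lift of the plane. -/
theorem comm_ker_le (hpr : IsPGroup 2 π.ker) {k : Γ} (hk : k ∈ commutator Γ) (hk1 : k ∈ π.ker) :
    k ∈ liftGrp e hF h L plane0 := by
  obtain ⟨S, hS, hmap⟩ := exists_syl_lift e hF h hπ hL
  obtain ⟨W, hW⟩ : ∃ W, W = (sylGrp e hF h).comap π := ⟨_, rfl⟩
  have hWS : ⁅W, W⁆ ≤ S := Subgroup.commutator_le.2 fun a ha b hb => by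
    rw [hW, Subgroup.mem_comap] at ha hb
    obtain ⟨c, hc, hca⟩ := hmap ha
    obtain ⟨d, hd, hdb⟩ := hmap hb
    rw [bracket_congr hπ hca.symm hdb.symm, commutatorElement_def]
    exact mul_mem (mul_mem (mul_mem hc hd) (inv_mem hc)) (inv_mem hd)
  have h1 : MonoidHom.transfer (Abelianization.of : W →* _) k = 1 :=
    Abelianization.commutator_subset_ker _ hk
  have hkc : ∀ y, y * k = k * y := hπ.ker_comm hk1
  rw [MonoidHom.transfer_eq_pow _ k (fun n y _ => by
    rw [mul_assoc, ← (Commute.pow_right (hkc y) n).eq, inv_mul_cancel_left])] at h1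
  have h2 : k ^ W.index ∈ ⁅W, W⁆ := by
    rw [← Subgroup.map_subtype_commutator]
    exact ⟨_, by rw [← Abelianization.ker_of]; exact h1, rfl⟩
  have h3 : k ^ W.index ∈ liftGrp e hF h L plane0 :=
    hS _ (hWS h2) (by rw [map_pow, MonoidHom.mem_ker.1 hk1, one_pow])
  rw [hW, Subgroup.index_comap_of_surjective _ hπ.surj] at h3
  have hco : Nat.Coprime 2 (sylGrp e hF h).index :=
    Nat.prime_two.coprime_iff_not_dvd.2 (sylGrp_index_odd e hF h)
  obtain ⟨n, hn⟩ := hpr ⟨k, hk1⟩
  have hn' : k ^ 2 ^ n = 1 := congrArg Subtype.val hn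
  obtain ⟨m, hm'⟩ := exists_pow_eq_self_of_coprime (x := k) (n := (sylGrp e hF h).index)
    ((Nat.Coprime.pow_left n hco).symm.coprime_dvd_right (orderOf_dvd_of_pow_eq_one hn'))
  rw [← hm']
  exact pow_mem h3 m

omit hπ hL

/-- Elements of the Sylow subgroup in coordinates. -/
theorem syl_decomp {g : Cfsg.SU 6 F 2} (hg : g ∈ sylGrp e hF h) :
    ∃ m < 2048, ∃ t < 64, g = gW e hF h (mW m) * gW e hF h (tW t) := by
  obtain ⟨L', hL'⟩ : ∃ L' : Cfsg.SU 6 F 2 → Cfsg.SU 6 F 2,
      Lifts e hF h (π := MonoidHom.id (Cfsg.SU 6 F 2)) L' :=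
    exists_lifts e hF h ⟨fun x => ⟨x, rfl⟩, fun x hx => by rw [show x = 1 from hx]; exact one_mem _⟩
      (fun x => ⟨0, Subtype.ext (by rw [Subgroup.coe_pow, show (x : Cfsg.SU 6 F 2) = 1 from x.2, one_pow]; rfl)⟩)
  have hid : IsCE (MonoidHom.id (Cfsg.SU 6 F 2)) :=
    ⟨fun x => ⟨x, rfl⟩, fun x hx => by rw [show x = 1 from hx]; exact one_mem _⟩
  have hxor : ∀ a b : ℕ, gW e hF h (mW a) * gW e hF h (mW b) = gW e hF h (mW (a ^^^ b)) := fun a b => by
    rw [← map_el e hF h hL', ← map_el e hF h hL', ← map_el e hF h hL', ← map_mul, el_mul e hF h hL']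
  obtain ⟨gens, hgens⟩ : ∃ gens, gens = plane0.map (tv e hF h) ++ rootWords.map (gW e hF h) := ⟨_, rfl⟩
  have hsq : ∀ a ∈ gens, a⁻¹ = a := by
    intro a ha
    rw [hgens] at ha
    rcases List.mem_append.1 ha with ha | ha
    · obtain ⟨p, hp, rfl⟩ := List.mem_map.1 ha
      exact inv_eq_of_mul_eq_one_right (tv_sq e hF h (isoSpan_spec planes_ok.1 hp).1)
    · obtain ⟨w, hw, rfl⟩ := List.mem_map.1 ha
      exact root_inv e hF h hw
  have hle : sylGrp e hF h ≤ Subgroup.closure {a | a ∈ gens} := by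
    refine sup_le (sup_le ?_ ?_) ?_ <;> refine (Subgroup.closure_le _).2 fun a ha => Subgroup.subset_closure ?_
    · rw [hgens]; exact List.mem_append_left _ ha
    · obtain ⟨w, hw, rfl⟩ := List.mem_map.1 ha
      rw [hgens]; exact List.mem_append_right _ (List.mem_map_of_mem (List.mem_of_mem_take hw))
    · obtain ⟨w, hw, rfl⟩ := List.mem_map.1 ha
      rw [hgens]; exact List.mem_append_right _ (List.mem_map_of_mem (List.mem_of_mem_drop hw))
  have step : ∀ (x a : Cfsg.SU 6 F 2), a ∈ gens → (∃ m < 2048, ∃ t < 64, x = gW e hF h (mW m) * gW e hF h (tW t)) →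
      ∃ m < 2048, ∃ t < 64, x * a = gW e hF h (mW m) * gW e hF h (tW t) := by
    rintro x a ha ⟨m, hm, t, ht, rfl⟩
    rw [hgens] at ha
    rcases List.mem_append.1 ha with ha | ha
    · obtain ⟨p, hp, rfl⟩ := List.mem_map.1 ha
      refine ⟨m ^^^ selX (tVec t) (pvOf p), xor_lt hm (selX_lt _ _ (actOK_root ht).vec_lt), t, ht, ?_⟩
      have e1 : tv e hF h p = gW e hF h (mW (pvOf p)) := by
        rw [← map_el e hF h hL', ← lp_eq e hF h hid hL' hp]
        exact (hL'.map _ (isTv_plane0 e hF h hp)).symm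
      have e2 := el_conj e hF h hid hL' (actOK_root ht) (K := gW e hF h (tW t)) rfl (pvOf p)
      have e3 : gW e hF h (tW t) * gW e hF h (mW (pvOf p)) * (gW e hF h (tW t))⁻¹ =
          gW e hF h (mW (selX (tVec t) (pvOf p))) := by
        rw [← map_el e hF h hL', ← map_el e hF h hL']
        exact e2
      rw [e1, ← hxor, ← e3]
      group
    · obtain ⟨w, hw, rfl⟩ := List.mem_map.1 ha
      obtain ⟨j, hj, rfl⟩ := List.getElem_of_mem hw
      have hj6 : j < 6 := root_split.2 ▸ hj
      have h1 := List.all_eq_true.1 (List.all_eq_true.1 mul_ok t (List.mem_range.2 ht)) j (List.mem_range.2 hj6)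
      simp only [mulOK, Bool.and_eq_true, Nat.blt_eq] at h1
      obtain ⟨⟨ha1, ha2⟩, he⟩ := h1
      rw [List.getD_eq_getElem _ _ hj] at he
      refine ⟨_, xor_lt hm ha1, _, ha2, ?_⟩
      have hiw : isoW rootWords[j] = true := List.all_eq_true.1 root_ok.1 _ (List.getElem_mem hj)
      have := gW_eq e hF h (w := tW t ++ rootWords[j]) ?_ ?_ he
      · rw [gW_append, gW_append] at this
        rw [mul_assoc]; erw [this]; rw [← mul_assoc, hxor]
      · simp only [isoW, List.all_append] at hiw ⊢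
        rw [Bool.and_eq_true]; exact ⟨isoW_tW t, hiw⟩
      · simp only [isoW, List.all_append]
        rw [Bool.and_eq_true]; exact ⟨isoW_mW _, isoW_tW _⟩
  have key := hle hg
  clear hg
  induction key using Subgroup.closure_induction_right with
  | one => exact ⟨0, by norm_num, 0, by norm_num, by simp [mW, tW, rootSel, sel_zero, gW_nil]⟩
  | mul_right x _ y hy hx => exact step x y hy hx
  | mul_inv_cancel x _ y hy hx => rw [hsq y hy]; exact step x y hy hx

end CfsgLib.KnownB.U62Thompson
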