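import Cfsg.Agent.Lib.KnownB.U62Thompson.Sylow

/-!
The conjugates of a central involution inside the plane subgroup of its centraliser.
-/

set_option autoImplicit false
set_option maxRecDepth 20000

noncomputable section

namespace CfsgLib.KnownB.U62Thompson

open Matrix CfsgLib.Classical CfsgLib.Classical.Unitary CfsgLib.Spor CfsgLib.MultSU CfsgLib.KnownB.U62Mult

universe u w z

variable {F : Type u} [Field F] {e : QField →+* F} {σ : F →+* F} [Finite F] {hF : Nat.card F = 2 ^ 2}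
  {h : UFrob σ 2} {H : Type w} [Group H] {τ : H →* Cfsg.PSU 6 F 2} {δ : H} {c : ℕ} {E : ℕ → H}
  {G : Type z} [Group G]

/-- `ι` embeds `H` as the centraliser of `d`, the image of `δ` -/
structure AsCent (ι : H →* G) (δ : H) (d : G) : Prop where
  inj : Function.Injective ι
  range : ∀ g : G, g ∈ ι.range ↔ g * d = d * g
  image : ι δ = d

theorem testBit_pow_or {B r m : ℕ} : (Nat.lor B (Nat.shiftLeft 1 r)).testBit m = true ↔ B.testBit m = true ∨ m = r := by
  show (B ||| 1 <<< r).testBit m = true ↔ _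
  rw [Nat.testBit_or, Bool.or_eq_true, Nat.one_shiftLeft, Nat.testBit_two_pow, decide_eq_true_eq, eq_comm (a := r)]

theorem growOK_spec {P : ℕ → Prop} {z : ℕ} (hcan : ∀ m, P (canZ z m) ↔ P m)
    (hinv : ∀ g < 7, ∀ m, P (selX (genVec.getD g []) m) ↔ P m) {Q : Prop} :
    ∀ (l : List (ℕ × ℕ × ℕ)) (acc B : ℕ), growOK z acc l B = true →
      (∀ m, acc.testBit m = true → (P m ↔ Q)) → ∀ m, B.testBit m = true → (P m ↔ Q)
  | [], acc, B, hok, ha, m, hm => ha m (by
      rw [Nat.eq_of_beq_eq_true hok]; exact hm)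
  | (y, x, g) :: r, acc, B, hok, ha, m, hm => by
    simp only [growOK, Bool.and_eq_true, Nat.blt_eq, Nat.beq_eq] at hok
    obtain ⟨⟨⟨hx, hg⟩, hy⟩, hrest⟩ := hok
    refine growOK_spec hcan hinv r _ B hrest (fun k hk => ?_) m hm
    rcases (testBit_pow_or (r := y)).1 hk with hk | hk
    · exact ha k hk
    · rw [hk, ← hy, hcan, hinv g hg]; exact ha x hx

theorem orbit_facts {c : ℕ} (hc : c < 3) : orbCheck c = true ∧ coverCheck c = true ∧ sqCheck c = true ∧
    countCheck c = true ∧ smallCheck c = true := by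
  have h1 := List.all_eq_true.1 orb_ok c (List.mem_range.2 hc)
  have h2 := List.all_eq_true.1 count_ok c (List.mem_range.2 hc)
  simp only [Bool.and_eq_true] at h1 h2
  exact ⟨h1.1.1, h1.1.2, h1.2, h2.1, h2.2⟩

theorem mem_elemsOf {B m : ℕ} : m ∈ elemsOf B ↔ m < 2048 ∧ B.testBit m = true := by
  simp [elemsOf]

theorem orbit_small {c i m : ℕ} (hc : c < 3) (hi : i = 2 ∨ i = 4) (hm : m < 2048)
    (hb : (orbBits c i).testBit m = true) : canZ (zOf c) m = m := by
  have h1 := (orbit_facts hc).2.2.2.2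
  simp only [smallCheck, Bool.and_eq_true, List.all_eq_true, Nat.beq_eq] at h1
  rcases hi with rfl | rfl
  · exact h1.2 m (mem_elemsOf.2 ⟨hm, hb⟩)
  · refine h1.1.2 m (mem_elemsOf.2 ⟨hm, ?_⟩)
    show ((1 <<< dOf c) ||| orbBits c 4).testBit m = true
    rw [Nat.testBit_or, hb, Bool.or_true]

/-- A member of the centraliser conjugate to the involution is no square in the centraliser. -/
theorem no_square (M : Mdl e hF h τ δ c E) [Finite H] {ι : H →* G} {d : G} (hA : AsCent ι δ d) {v : H} {x : G}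
    (hx : ι (v * v) = x) : ¬ IsConj d x := by
  intro hconj
  obtain ⟨g, hg⟩ := isConj_iff.1 hconj
  obtain ⟨w, hw⟩ : ∃ w, w = g⁻¹ * ι v * g := ⟨_, rfl⟩
  have h2 : w * w = d := by
    rw [hw, show g⁻¹ * ι v * g * (g⁻¹ * ι v * g) = g⁻¹ * (ι v * ι v) * g by group, ← map_mul, hx, ← hg]
    group
  obtain ⟨u, hu⟩ := (hA.range w).2 (by rw [← h2]; group)
  have h3 : u * u = δ := hA.inj (by rw [map_mul, hu, h2, hA.image])
  obtain ⟨a, ha⟩ := M.conj_A' (Or.inr h3)
  obtain ⟨k, -, hk⟩ := ha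
  have h4 : a * δ * a⁻¹ = 1 := by
    rw [← h3, show a * (u * u) * a⁻¹ = a * u * a⁻¹ * (a * u * a⁻¹) by group, hk, M.sq]
  rw [← M.central a, mul_inv_cancel_right] at h4
  have := M.ord
  rw [h4, orderOf_one] at this
  omega

/-- Conjugates of the involution in the plane subgroup are conjugate under its normaliser. -/
theorem exists_normalizing (M : Mdl e hF h τ δ c E) [Finite H] {ι : H →* G} {d : G} (hA : AsCent ι δ d)
    {x : G} (hx : x ∈ M.A.map ι) (hconj : IsConj d x) :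
    ∃ n ∈ Subgroup.normalizer ((M.A.map ι : Subgroup G) : Set G), n * d * n⁻¹ = x := by
  obtain ⟨g, hg⟩ := isConj_iff.1 hconj
  have hback : ∀ y ∈ M.A.map ι, g⁻¹ * y * g ∈ ι.range := fun y hy => by
    rw [hA.range]
    obtain ⟨a, ha, rfl⟩ := hy
    obtain ⟨b, hb, hbx⟩ := hx
    have hab : ι a * x = x * ι a := by rw [← hbx, ← map_mul, ← map_mul, M.comm_A ha hb]
    rw [← hg] at hab
    calc g⁻¹ * ι a * g * d = g⁻¹ * (ι a * (g * d * g⁻¹)) * g := by group
      _ = g⁻¹ * (g * d * g⁻¹ * ι a) * g := by rw [hab]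
      _ = d * (g⁻¹ * ι a * g) := by group
  obtain ⟨B, hB⟩ : ∃ B : Subgroup H, B = ((M.A.map ι).map (MulAut.conj g⁻¹).toMonoidHom).comap ι := ⟨_, rfl⟩
  have hBm : ∀ b, b ∈ B ↔ ∃ y ∈ M.A.map ι, g⁻¹ * y * g = ι b := fun b => by
    rw [hB, Subgroup.mem_comap, Subgroup.mem_map]
    simp [MulAut.conj_apply]
  have hBcard : 1024 ≤ Nat.card B := by
    rw [← M.card_A]
    choose f hf using fun a : M.A => hback _ (Subgroup.mem_map_of_mem ι a.2)
    refine Nat.card_le_card_of_injective (fun a : M.A => (⟨f a, (hBm _).2 ⟨_, Subgroup.mem_map_of_mem ι a.2,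
      (hf a).symm⟩⟩ : B)) fun a b hab => ?_
    have h1 := hf a
    rw [show f a = f b from congrArg Subtype.val hab, hf b] at h1
    exact Subtype.ext (hA.inj (by simpa using h1.symm))
  have hBsq : ∀ b ∈ B, b ^ 2 = 1 := fun b hb => by
    obtain ⟨_, ⟨a, ha, rfl⟩, hab⟩ := (hBm b).1 hb
    refine hA.inj ?_
    rw [map_pow, ← hab, map_one, pow_two,
      show g⁻¹ * ι a * g * (g⁻¹ * ι a * g) = g⁻¹ * (ι a * ι a) * g by group, ← map_mul, ← pow_two,
      M.elem_A.2 a ha, map_one]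
    group
  have hBel : Cfsg.IsElementaryAbelian 2 B := by
    refine ⟨⟨⟨fun a b => Subtype.ext ?_⟩⟩, hBsq⟩
    obtain ⟨_, ⟨a', ha', rfl⟩, hab⟩ := (hBm a).1 a.2
    obtain ⟨_, ⟨b', hb', rfl⟩, hbb⟩ := (hBm b).1 b.2
    refine hA.inj ?_
    rw [Subgroup.coe_mul, Subgroup.coe_mul, map_mul, map_mul, ← hab, ← hbb,
      show g⁻¹ * ι a' * g * (g⁻¹ * ι b' * g) = g⁻¹ * (ι a' * ι b') * g by group,
      show g⁻¹ * ι b' * g * (g⁻¹ * ι a' * g) = g⁻¹ * (ι b' * ι a') * g by group, ← map_mul, ← map_mul,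
      M.comm_A ha' hb']
  obtain ⟨a, ha⟩ := exists_into_S M (B := B) (fun b => ⟨1, Subtype.ext (by simpa using hBsq _ b.2)⟩)
  have hinj : Function.Injective (MulAut.conj a).toMonoidHom := (MulAut.conj a).injective
  have hB' : B.map (MulAut.conj a).toMonoidHom = M.A := by
    refine M.unique ?_ ⟨⟨⟨?_⟩⟩, ?_⟩ (by rwa [Subgroup.card_map_of_injective hinj])
    · rintro _ ⟨b, hb, rfl⟩
      exact ha b hb
    · rintro ⟨_, x, hx, rfl⟩ ⟨_, y, hy, rfl⟩
      refine Subtype.ext ?_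
      show MulAut.conj a x * MulAut.conj a y = MulAut.conj a y * MulAut.conj a x
      rw [← map_mul, ← map_mul]
      exact congrArg _ (congrArg Subtype.val (hBel.1.is_comm.comm ⟨x, hx⟩ ⟨y, hy⟩))
    · rintro _ ⟨b, hb, rfl⟩
      rw [← map_pow, hBsq b hb, map_one]
  refine ⟨g * (ι a)⁻¹, ?_, ?_⟩
  · rw [Subgroup.mem_normalizer_iff]
    intro y
    have hfwd : ∀ y ∈ M.A.map ι, ι a * (g⁻¹ * y * g) * (ι a)⁻¹ ∈ M.A.map ι := fun y hy => by
      obtain ⟨b, hb⟩ := hback y hy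
      refine ⟨a * b * a⁻¹, ?_, by rw [map_mul, map_mul, map_inv, hb]⟩
      rw [← hB']
      exact ⟨b, (hBm b).2 ⟨y, hy, hb.symm⟩, rfl⟩
    constructor
    · rintro ⟨v, hv, rfl⟩
      rw [← hB'] at hv
      obtain ⟨b, hb, rfl⟩ := hv
      obtain ⟨y, hy, hyb⟩ := (hBm b).1 hb
      have : ι ((MulAut.conj a).toMonoidHom b) = ι a * (g⁻¹ * y * g) * (ι a)⁻¹ := by
        rw [hyb]; simp
      rw [this]
      convert hy using 1
      group
    · intro hy
      convert hfwd _ hy using 1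
      group
  · have h1 : ι a * d = d * ι a := (hA.range _).1 ⟨a, rfl⟩
    rw [← hg]
    calc g * (ι a)⁻¹ * d * (g * (ι a)⁻¹)⁻¹ = g * ((ι a)⁻¹ * (d * ι a)) * g⁻¹ := by group
      _ = g * d * g⁻¹ := by rw [← h1]; group

/-- Which members of the plane subgroup are conjugates of the involution. -/
theorem conj_iff (M : Mdl e hF h τ δ c E) [Finite H] {ι : H →* G} {d : G} (hA : AsCent ι δ d)
    (hwc : ∃ g : G, g * d * g⁻¹ ∈ ι.range ∧ g * d * g⁻¹ ≠ d) {k : ℕ} (hk : k < 2048)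
    (hkc : canZ (zOf c) k = k) :
    IsConj d (ι (E k)) ↔ k ∈ elemsOf ((1 <<< dOf c) ||| orbBits c 4) := by
  classical
  obtain ⟨hzpos, -, hdlt, -, -, hdcan⟩ := zOf_pos M.lt
  obtain ⟨hOrb, hCov, hSq, hCnt, hSmall⟩ := orbit_facts M.lt
  let P : ℕ → Prop := fun m => IsConj d (ι (E m))
  have hcan : ∀ m, P (canZ (zOf c) m) ↔ P m := fun m => by simp only [P, M.can]
  have hinv : ∀ g < 7, ∀ m, P (selX (genVec.getD g []) m) ↔ P m := by
    intro g hg m
    obtain ⟨K, hK⟩ := M.surj (cls (gW e hF h ((rootWords ++ [moverW]).getD g [])))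
    have h1 := M.conj _ _ (actOK_gen hg) K hK m
    have h2 : IsConj (ι (E m)) (ι (E (selX (genVec.getD g []) m))) :=
      isConj_iff.2 ⟨ι K, by rw [← h1, map_mul, map_mul, map_inv]⟩
    exact ⟨fun hp => hp.trans h2.symm, fun hp => hp.trans h2⟩
  have horb : ∀ i < 5, ∀ m, (orbBits c i).testBit m = true → (P m ↔ P (orbRoot c i)) := by
    intro i hi
    have h1 := List.all_eq_true.1 hOrb i (List.mem_range.2 hi)
    simp only [Bool.and_eq_true] at h1
    refine growOK_spec hcan hinv _ _ _ h1.1 fun k hk => ?_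
    rw [Nat.one_shiftLeft, Nat.testBit_two_pow, decide_eq_true_eq] at hk
    rw [← hk]
    rfl
  -- squares
  have hnot : ∀ i ∈ [0, 1, 3], ¬ P (orbRoot c i) := by
    intro i hi hp
    have h1 := List.all_eq_true.1 hSq i hi
    simp only [List.any_eq_true, Bool.and_eq_true, Nat.beq_eq, Nat.blt_eq] at h1
    obtain ⟨⟨_, g, n⟩, -, ⟨⟨rfl, hg⟩, -⟩, hb⟩ := h1
    simp only at hg hb
    have hi5 : ∀ i ∈ [0, 1, 3], i < 5 := by decide
    have hp' := (hcan _).1 ((horb _ (hi5 _ hi) _ hb).2 hp)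
    obtain ⟨U, hU⟩ := M.surj (cls (gW e hF h ((rootWords ++ [moverW]).getD g [])))
    have hg7 : g < 7 := by omega
    have hconjU := M.conj _ _ (actOK_gen hg7) U hU n
    have hU2 : U * U = 1 := by
      have h2 : τ (U * U) = 1 := by
        have hlen : g < rootWords.length := by rw [root_split.2]; exact hg
        rw [map_mul, hU, ← map_mul, List.getD_eq_getElem _ _ (by rw [List.length_append]; omega),
          List.getElem_append_left hlen, root_sq e hF h (List.getElem_mem hlen), map_one]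
      rcases (M.ker _).1 h2 with r | r
      · exact r
      · exact absurd (IsConj.refl d) (no_square M hA (by rw [r, hA.image]))
    refine no_square M hA (v := E n * U) rfl ?_
    have hUinv : U⁻¹ = U := inv_eq_of_mul_eq_one_right hU2
    rw [show E n * U * (E n * U) = E (n ^^^ selX (genVec.getD g []) n) by
      rw [← M.mul, ← hconjU, hUinv]; group]
    exact hp'
  have hP0 : ¬ P 0 := fun hp => by
    have hd := M.ord
    have h1 : IsConj d (ι (E 0)) := hp
    rw [M.zero, map_one, isConj_comm, isConj_one_right, ← hA.image, ← map_one ι] at h1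
    rw [hA.inj h1, orderOf_one] at hd
    omega
  have hPd : P (dOf c) := by
    show IsConj d (ι (E (dOf c)))
    rw [M.d_eq, hA.image]
  -- which classes
  have hclass : ∀ m < 2048, P m → canZ (zOf c) m = dOf c ∨ (orbBits c 2).testBit (canZ (zOf c) m) = true ∨
      (orbBits c 4).testBit (canZ (zOf c) m) = true := by
    intro m hm hp
    have hp' := (hcan m).2 hp
    have h1 := List.all_eq_true.1 (by simpa only [coverCheck, forceN_eq] using hCov) m (List.mem_range.2 hm)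
    simp only [Nat.testBit_or, Bool.or_eq_true] at h1
    rcases h1 with (((((r | r) | r) | r) | r) | r) | r
    · exact absurd ((horb 0 (by norm_num) _ r).1 hp') (hnot 0 (by simp))
    · exact absurd ((horb 1 (by norm_num) _ r).1 hp') (hnot 1 (by simp))
    · exact Or.inr (Or.inl r)
    · exact absurd ((horb 3 (by norm_num) _ r).1 hp') (hnot 3 (by simp))
    · exact Or.inr (Or.inr r)
    · rw [Nat.testBit_one_eq_true_iff_self_eq_zero] at r
      exact absurd (r ▸ hp') hP0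
    · rw [Nat.one_shiftLeft, Nat.testBit_two_pow, decide_eq_true_eq] at r
      exact Or.inl r.symm
  have hcount : ∀ {B : ℕ}, (∀ m, m ∈ elemsOf B ↔ (m < 2048 ∧ canZ (zOf c) m = m) ∧ P m) →
      ∀ {k : ℕ}, k < 2048 →
      Set.ncard {y : G | (y ∈ M.A.map ι ∧ IsConj d y) ∧ (y * ι (E k) ∈ M.A.map ι ∧ IsConj d (y * ι (E k)))} =
        pairCount (zOf c) B k := by
    intro B hB k hk
    have hset : {y : G | (y ∈ M.A.map ι ∧ IsConj d y) ∧ (y * ι (E k) ∈ M.A.map ι ∧ IsConj d (y * ι (E k)))} =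
        ι '' {x : H | ∃ m ∈ (elemsOf B).filter (fun o => B.testBit (canZ (zOf c) (Nat.xor o k))), x = E m} := by
      ext y
      constructor
      · rintro ⟨⟨⟨x, hx, rfl⟩, hp⟩, -, hq⟩
        obtain ⟨m, hm, hmc, rfl⟩ := M.mem_A_can.1 hx
        refine ⟨E m, ⟨m, List.mem_filter.2 ⟨(hB m).2 ⟨⟨hm, hmc⟩, hp⟩, ?_⟩, rfl⟩, rfl⟩
        rw [← map_mul, M.mul] at hq
        have := (hB (canZ (zOf c) (m ^^^ k))).2 ⟨⟨canZ_lt M.lt (xor_lt hm hk), canZ_idem M.lt _⟩, (hcan _).2 hq⟩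
        exact (mem_elemsOf.1 this).2
      · rintro ⟨_, ⟨m, hm, rfl⟩, rfl⟩
        rw [List.mem_filter] at hm
        obtain ⟨⟨hm1, -⟩, hp⟩ := (hB m).1 hm.1
        refine ⟨⟨Subgroup.mem_map_of_mem ι ⟨m, hm1, rfl⟩, hp⟩, ?_⟩
        rw [← map_mul, M.mul]
        refine ⟨Subgroup.mem_map_of_mem ι ⟨_, xor_lt hm1 hk, rfl⟩, (hcan _).1 ?_⟩
        exact ((hB _).1 (mem_elemsOf.2 ⟨canZ_lt M.lt (xor_lt hm1 hk), hm.2⟩)).2
    rw [hset, Set.ncard_image_of_injective _ hA.inj]
    exact M.ncard_eq ((List.nodup_range.filter _).filter _)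
      (fun m hm => ((hB m).1 (List.mem_filter.1 hm).1).1) fun x => Iff.rfl
  -- the largest orbit is not fused
  have hnot2 : ¬ P (orbRoot c 2) := by
    intro hp2
    have h1 := List.all_eq_true.1 hOrb 2 (List.mem_range.2 (by norm_num))
    simp only [Bool.and_eq_true, Nat.blt_eq] at h1
    have hr2 : orbRoot c 2 < 2048 := h1.2
    obtain ⟨n, hn, hnd⟩ := exists_normalizing M hA (x := ι (E (orbRoot c 2)))
      (Subgroup.mem_map_of_mem ι ⟨_, hr2, rfl⟩) hp2
    rw [Subgroup.mem_normalizer_iff] at hn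
    have hcl : ∀ y, (y ∈ M.A.map ι ∧ IsConj d y) ↔ (n * y * n⁻¹ ∈ M.A.map ι ∧ IsConj d (n * y * n⁻¹)) := by
      intro y
      have h2 : IsConj y (n * y * n⁻¹) := isConj_iff.2 ⟨n, rfl⟩
      exact ⟨fun hy => ⟨(hn y).1 hy.1, hy.2.trans h2⟩, fun hy => ⟨(hn y).2 hy.1, hy.2.trans h2.symm⟩⟩
    have hsame : Set.ncard {y : G | (y ∈ M.A.map ι ∧ IsConj d y) ∧
          (y * ι (E (dOf c)) ∈ M.A.map ι ∧ IsConj d (y * ι (E (dOf c))))} =
        Set.ncard {y : G | (y ∈ M.A.map ι ∧ IsConj d y) ∧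
          (y * ι (E (orbRoot c 2)) ∈ M.A.map ι ∧ IsConj d (y * ι (E (orbRoot c 2))))} := by
      rw [← Set.ncard_image_of_injective _ (MulAut.conj n).injective]
      congr 1
      ext y
      rw [M.d_eq, hA.image, ← hnd]
      constructor
      · rintro ⟨x, ⟨h1, h2⟩, rfl⟩
        refine ⟨(hcl x).1 h1, ?_⟩
        have := (hcl _).1 h2
        rw [MulAut.conj_apply]
        rwa [show n * x * n⁻¹ * (n * d * n⁻¹) = n * (x * d) * n⁻¹ by group]
      · rintro ⟨h1, h2⟩
        refine ⟨n⁻¹ * y * n, ⟨(hcl _).2 ?_, (hcl _).2 ?_⟩, by rw [MulAut.conj_apply]; group⟩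
        · rwa [show n * (n⁻¹ * y * n) * n⁻¹ = y by group]
        · rwa [show n * (n⁻¹ * y * n * d) * n⁻¹ = y * (n * d * n⁻¹) by group]
    have hBsub : ∀ B, B = (1 <<< dOf c) ||| orbBits c 2 ∨ B = (1 <<< dOf c) ||| orbBits c 2 ||| orbBits c 4 →
        ∀ m, m < 2048 → B.testBit m = true → canZ (zOf c) m = m ∧ (P m ∨ (orbBits c 4).testBit m = true) := by
      intro B hB m hm hb
      rcases hB with rfl | rfl <;>
        simp only [Nat.testBit_or, Bool.or_eq_true, Nat.one_shiftLeft, Nat.testBit_two_pow, decide_eq_true_eq] at hb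
      · rcases hb with r | r
        · exact ⟨r ▸ hdcan, Or.inl (r ▸ hPd)⟩
        · exact ⟨orbit_small M.lt (Or.inl rfl) hm r, Or.inl ((horb 2 (by norm_num) _ r).2 hp2)⟩
      · rcases hb with (r | r) | r
        · exact ⟨r ▸ hdcan, Or.inl (r ▸ hPd)⟩
        · exact ⟨orbit_small M.lt (Or.inl rfl) hm r, Or.inl ((horb 2 (by norm_num) _ r).2 hp2)⟩
        · exact ⟨orbit_small M.lt (Or.inr rfl) hm r, Or.inr r⟩
    simp only [countCheck, List.all_cons, List.all_nil, Bool.and_true, forceN_eq, Bool.and_eq_true,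
      Bool.not_eq_true'] at hCnt
    by_cases hp4 : P (orbRoot c 4)
    · obtain ⟨B, hBd⟩ : ∃ B, B = (1 <<< dOf c) ||| orbBits c 2 ||| orbBits c 4 := ⟨_, rfl⟩
      have hB : ∀ m, m ∈ elemsOf B ↔ (m < 2048 ∧ canZ (zOf c) m = m) ∧ P m := fun m => by
        rw [mem_elemsOf]
        refine ⟨fun ⟨hm, hb⟩ => ?_, fun ⟨⟨hm, hmc⟩, hp⟩ => ⟨hm, ?_⟩⟩
        · obtain ⟨a, b⟩ := hBsub B (Or.inr hBd) m hm hb
          exact ⟨⟨hm, a⟩, b.elim id fun r => (horb 4 (by norm_num) _ r).2 hp4⟩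
        · have h3 := hclass m hm hp
          rw [hmc] at h3
          rw [hBd, Nat.testBit_or, Nat.testBit_or, Nat.one_shiftLeft, Nat.testBit_two_pow]
          rcases h3 with r | r | r <;> simp [r]
      rw [hcount hB hdlt, hcount hB hr2] at hsame
      rw [hBd] at hsame
      have := hCnt.2
      rw [hsame] at this
      simp at this
    · obtain ⟨B, hBd⟩ : ∃ B, B = (1 <<< dOf c) ||| orbBits c 2 := ⟨_, rfl⟩
      have hB : ∀ m, m ∈ elemsOf B ↔ (m < 2048 ∧ canZ (zOf c) m = m) ∧ P m := fun m => by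
        rw [mem_elemsOf]
        refine ⟨fun ⟨hm, hb⟩ => ?_, fun ⟨⟨hm, hmc⟩, hp⟩ => ⟨hm, ?_⟩⟩
        · obtain ⟨a, -⟩ := hBsub B (Or.inl hBd) m hm hb
          rw [hBd, Nat.testBit_or, Bool.or_eq_true, Nat.one_shiftLeft, Nat.testBit_two_pow, decide_eq_true_eq] at hb
          exact ⟨⟨hm, a⟩, hb.elim (fun r => r ▸ hPd) fun r => (horb 2 (by norm_num) _ r).2 hp2⟩
        · have h3 := hclass m hm hp
          rw [hmc] at h3
          rw [hBd, Nat.testBit_or, Nat.one_shiftLeft, Nat.testBit_two_pow]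
          rcases h3 with r | r | r
          · simp [r]
          · simp [r]
          · exact absurd ((horb 4 (by norm_num) _ r).1 hp) hp4
      rw [hcount hB hdlt, hcount hB hr2] at hsame
      rw [hBd] at hsame
      have := hCnt.1
      rw [hsame] at this
      simp at this
  -- some other class is fused
  have hp4 : P (orbRoot c 4) := by
    obtain ⟨g, hgr, hgne⟩ := hwc
    obtain ⟨x, hx⟩ := hgr
    have hd2 : δ * δ = 1 := by rw [← pow_two]; have := pow_orderOf_eq_one δ; rwa [M.ord] at this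
    have hx2 : x * x = 1 := hA.inj (by
      rw [map_mul, hx, show g * d * g⁻¹ * (g * d * g⁻¹) = g * (d * d) * g⁻¹ by group, ← hA.image, ← map_mul,
        hd2, map_one]
      group)
    obtain ⟨a, ha⟩ := M.conj_A' (Or.inl hx2)
    obtain ⟨m, hm, hmc, hme⟩ := M.mem_A_can.1 ha
    have hp : P m := by
      show IsConj d (ι (E m))
      rw [← hme, map_mul, map_mul, map_inv, hx]
      exact isConj_iff.2 ⟨ι a * g, by group⟩
    have h3 := hclass m hm hp
    rw [hmc] at h3
    rcases h3 with r | r | r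
    · exfalso
      rw [r, M.d_eq] at hme
      have hxd : x = δ := by
        calc x = a⁻¹ * (a * x * a⁻¹) * a := by group
          _ = a⁻¹ * (δ * a) := by rw [hme]; group
          _ = δ := by rw [M.central a]; group
      exact hgne (by rw [← hx, hxd, hA.image])
    · exact absurd ((horb 2 (by norm_num) _ r).1 hp) hnot2
    · exact (horb 4 (by norm_num) _ r).1 hp
  rw [mem_elemsOf, Nat.testBit_or, Nat.one_shiftLeft, Nat.testBit_two_pow, Bool.or_eq_true, decide_eq_true_eq]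
  refine ⟨fun hp => ⟨hk, ?_⟩, fun ⟨_, hb⟩ => ?_⟩
  · have h3 := hclass k hk hp
    rw [hkc] at h3
    rcases h3 with r | r | r
    · exact Or.inl r.symm
    · exact absurd ((horb 2 (by norm_num) _ r).1 hp) hnot2
    · exact Or.inr r
  · exact hb.elim (fun r => r ▸ hPd) fun r => (horb 4 (by norm_num) _ r).2 hp4

/-- The involution has exactly `22` conjugates in the plane subgroup. -/
theorem conj_count (M : Mdl e hF h τ δ c E) [Finite H] {ι : H →* G} {d : G} (hA : AsCent ι δ d)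
    (hwc : ∃ g : G, g * d * g⁻¹ ∈ ι.range ∧ g * d * g⁻¹ ≠ d) :
    Set.ncard {x : G | x ∈ M.A.map ι ∧ IsConj d x} = 22 := by
  obtain ⟨-, -, -, -, hSmall⟩ := orbit_facts M.lt
  simp only [smallCheck, Bool.and_eq_true, Nat.beq_eq, List.all_eq_true] at hSmall
  rw [show {x : G | x ∈ M.A.map ι ∧ IsConj d x} =
    ι '' {x : H | ∃ m ∈ elemsOf ((1 <<< dOf c) ||| orbBits c 4), x = E m} from ?_,
    Set.ncard_image_of_injective _ hA.inj]
  · exact (M.ncard_eq (l := elemsOf ((1 <<< dOf c) ||| orbBits c 4)) (List.nodup_range.filter _)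
      (fun m hm => ⟨(mem_elemsOf.1 hm).1, hSmall.1.2 m hm⟩) fun x => Iff.rfl).trans hSmall.1.1
  ext y
  constructor
  · rintro ⟨⟨x, hx, rfl⟩, hp⟩
    obtain ⟨m, hm, hmc, rfl⟩ := M.mem_A_can.1 hx
    exact ⟨_, ⟨m, (conj_iff M hA hwc hm hmc).1 hp, rfl⟩, rfl⟩
  · rintro ⟨_, ⟨m, hm, rfl⟩, rfl⟩
    exact ⟨Subgroup.mem_map_of_mem ι ⟨m, (mem_elemsOf.1 hm).1, rfl⟩,
      (conj_iff M hA hwc (mem_elemsOf.1 hm).1 (hSmall.1.2 m hm)).2 hm⟩

/-- The conjugates of the involution in the plane subgroup form one orbit of the normaliser. -/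
theorem conj_trans (M : Mdl e hF h τ δ c E) [Finite H] {ι : H →* G} {d : G} (hA : AsCent ι δ d)
    {x y : G} (hx : x ∈ M.A.map ι) (hy : y ∈ M.A.map ι) (hdx : IsConj d x) (hdy : IsConj d y) :
    ∃ n ∈ Subgroup.normalizer ((M.A.map ι : Subgroup G) : Set G), n * x * n⁻¹ = y := by
  obtain ⟨a, ha, hax⟩ := exists_normalizing M hA hx hdx
  obtain ⟨b, hb, hby⟩ := exists_normalizing M hA hy hdy
  refine ⟨b * a⁻¹, mul_mem hb (inv_mem ha), ?_⟩
  rw [← hax, ← hby]
  group

/-- The plane subgroup is the Thompson subgroup of every Sylow subgroup containing a conjugate of it. -/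
theorem thompson_eq (M : Mdl e hF h τ δ c E) [Finite H] (P : Sylow 2 H) :
    ∃ a : H, Cfsg.thompsonSubgroupOf 2 (P : Subgroup H) = M.A.map (MulAut.conj a).toMonoidHom := by
  haveI := Fact.mk Nat.prime_two
  obtain ⟨a, ha⟩ := MulAction.exists_smul_eq H (M.isPGroup_S.toSylow M.index_S) P
  have hPS : (P : Subgroup H) = M.S.map (MulAut.conj a).toMonoidHom := by
    rw [← ha]
    rfl
  have hinj : Function.Injective (MulAut.conj a).toMonoidHom := (MulAut.conj a).injective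
  obtain ⟨T, hT⟩ : ∃ T : Subgroup H, T = M.A.map (MulAut.conj a).toMonoidHom := ⟨_, rfl⟩
  have hTP : T ≤ (P : Subgroup H) := by
    rw [hT, hPS]; exact Subgroup.map_mono M.A_le_S
  have hTcard : Nat.card T = 1024 := by rw [hT, Subgroup.card_map_of_injective hinj, M.card_A]
  refine ⟨a, ?_⟩
  rw [← hT]
  have hTel : Cfsg.IsElementaryAbelian 2 (T.subgroupOf (P : Subgroup H)) := by
    refine ⟨⟨⟨fun x y => Subtype.ext (Subtype.ext ?_)⟩⟩, fun x hx => Subtype.ext ?_⟩
    · have hx : (x.1 : H) ∈ M.A.map (MulAut.conj a).toMonoidHom := (le_of_eq hT) x.2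
      have hy : (y.1 : H) ∈ M.A.map (MulAut.conj a).toMonoidHom := (le_of_eq hT) y.2
      obtain ⟨x', hx', hxe⟩ := hx
      obtain ⟨y', hy', hye⟩ := hy
      show (x.1 : H) * y.1 = y.1 * x.1
      rw [← hxe, ← hye, ← map_mul, ← map_mul, M.comm_A hx' hy']
    · have hx' : (x : H) ∈ T := hx
      rw [hT] at hx'
      obtain ⟨x', hx'', hxe⟩ := hx'
      rw [Subgroup.coe_pow, ← hxe, ← map_pow, M.elem_A.2 x' hx'', map_one]
      rfl
  have huniq : ∀ B : Subgroup P, Cfsg.IsElementaryAbelian 2 B → 1024 ≤ Nat.card B →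
      B = T.subgroupOf (P : Subgroup H) := by
    intro B hBel hBc
    obtain ⟨B', hB'⟩ : ∃ B' : Subgroup H,
        B' = (B.map (P : Subgroup H).subtype).map (MulAut.conj a⁻¹).toMonoidHom := ⟨_, rfl⟩
    have hi' : Function.Injective ((MulAut.conj a⁻¹).toMonoidHom.comp (P : Subgroup H).subtype) :=
      (MulAut.conj a⁻¹).injective.comp (Subgroup.subtype_injective _)
    rw [Subgroup.map_map] at hB'
    have h1 : B' = M.A := by
      refine M.unique ?_ ⟨⟨⟨?_⟩⟩, ?_⟩ (by rw [hB', Subgroup.card_map_of_injective hi']; exact hBc)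
      · rw [hB']
        rintro _ ⟨b, -, rfl⟩
        have hb : (b : H) ∈ M.S.map (MulAut.conj a).toMonoidHom := hPS ▸ b.2
        obtain ⟨s, hs, hse⟩ := hb
        show a⁻¹ * (b : H) * a⁻¹⁻¹ ∈ M.S
        rw [← hse, show a⁻¹ * (MulAut.conj a).toMonoidHom s * a⁻¹⁻¹ = s by simp; group]
        exact hs
      · rw [hB']
        rintro ⟨_, x, hx, rfl⟩ ⟨_, y, hy, rfl⟩
        refine Subtype.ext ?_
        show _ * _ = _ * _
        rw [← map_mul, ← map_mul]
        exact congrArg _ (congrArg Subtype.val (hBel.1.is_comm.comm ⟨x, hx⟩ ⟨y, hy⟩))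
      · rw [hB']
        rintro _ ⟨b, hb, rfl⟩
        rw [← map_pow, hBel.2 b hb, map_one]
    refine Subgroup.map_injective (Subgroup.subtype_injective _) ?_
    rw [Subgroup.subgroupOf_map_subtype, inf_eq_left.2 hTP, hT, ← h1, hB', ← Subgroup.map_map,
      Subgroup.map_map]
    convert (Subgroup.map_id (B.map (P : Subgroup H).subtype)).symm using 2
    ext x
    simp [mul_assoc]
  have hTc' : Nat.card (T.subgroupOf (P : Subgroup H)) = 1024 := by
    rw [Nat.card_congr (Subgroup.subgroupOfEquivOfLe hTP).toEquiv, hTcard]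
  have hmax : Cfsg.maxElementaryAbelianSubgroups 2 P = {T.subgroupOf (P : Subgroup H)} := by
    refine Set.eq_singleton_iff_unique_mem.2 ⟨⟨hTel, fun B hB => ?_⟩, fun B hB => huniq B hB.1 ?_⟩
    · rcases Nat.lt_or_ge (Nat.card B) 1024 with r | r
      · exact hTc'.symm ▸ r.le
      · rw [huniq B hB r]
    · exact hTc' ▸ hB.2 _ hTel
  show (sSup (Cfsg.maxElementaryAbelianSubgroups 2 P)).map (P : Subgroup H).subtype = T
  rw [hmax, sSup_singleton, Subgroup.subgroupOf_map_subtype, inf_eq_left.2 hTP]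

end CfsgLib.KnownB.U62Thompson
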