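import Cfsg.Agent.Lib.KnownB.U62Thompson.Cover
import Cfsg.Prelude.Def_Transfer

/-!
The plane subgroup is the only elementary abelian subgroup of order `2¹⁰` of a Sylow subgroup, and every
involution is conjugate into it.
-/

set_option autoImplicit false
set_option maxRecDepth 20000

noncomputable section

namespace CfsgLib.KnownB.U62Thompson

open Matrix CfsgLib.Classical CfsgLib.Classical.Unitary CfsgLib.Spor CfsgLib.MultSU CfsgLib.KnownB.U62Mult

universe u w

theorem bitsL_testBit : ∀ (l : List ℕ) (m : ℕ), (bitsL l).testBit m = true ↔ m ∈ l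
  | [], m => by simp [bitsL]
  | a :: r, m => by
    show (Nat.shiftLeft 1 a ||| bitsL r).testBit m = true ↔ _
    rw [Nat.testBit_or, Bool.or_eq_true, bitsL_testBit r, List.mem_cons,
      show Nat.shiftLeft 1 a = 1 <<< a from rfl, Nat.one_shiftLeft, Nat.testBit_two_pow, decide_eq_true_eq, eq_comm]

theorem zOf_pos {c : ℕ} (hc : c < 3) : 0 < zOf c ∧ zOf c < 2048 ∧ dOf c < 2048 ∧ inK0 (zOf c) = true ∧
    inK0 (dOf c) = true ∧ canZ (zOf c) (dOf c) = dOf c := by
  revert c; decide +kernel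

theorem canZ_cases (z m : ℕ) : canZ z m = m ∨ canZ z m = m ^^^ z := by
  unfold canZ
  cases Nat.ble m (Nat.xor m z)
  · exact Or.inr rfl
  · exact Or.inl rfl

theorem canZ_flip {z : ℕ} (hz : 0 < z) (m : ℕ) : canZ z (m ^^^ z) = canZ z m := by
  have h1 : (m ^^^ z) ^^^ z = m := by rw [Nat.xor_assoc, Nat.xor_self, Nat.xor_zero]
  have hne : m ^^^ z ≠ m := fun e => by
    have h2 : (m ^^^ z) ^^^ m = 0 := by rw [e, Nat.xor_self]
    rw [Nat.xor_comm m z, Nat.xor_assoc, Nat.xor_self, Nat.xor_zero] at h2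
    omega
  show cond (Nat.ble (m ^^^ z) ((m ^^^ z) ^^^ z)) (m ^^^ z) ((m ^^^ z) ^^^ z) =
    cond (Nat.ble m (m ^^^ z)) m (m ^^^ z)
  rw [h1]
  cases ha : Nat.ble (m ^^^ z) m <;> cases hb : Nat.ble m (m ^^^ z)
  · rw [← Bool.not_eq_true, Nat.ble_eq] at ha hb; omega
  · rfl
  · rfl
  · rw [Nat.ble_eq] at ha hb; omega

variable {F : Type u} [Field F] {e : QField →+* F} {σ : F →+* F} [Finite F] {hF : Nat.card F = 2 ^ 2}
  {h : UFrob σ 2} {H : Type w} [Group H] [Finite H] {τ : H →* Cfsg.PSU 6 F 2} {δ : H} {c : ℕ} {E : ℕ → H}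

omit [Finite H]

theorem cls_xor (M : Mdl e hF h τ δ c E) (a b : ℕ) :
    gW e hF h (mW a) * gW e hF h (mW b) = gW e hF h (mW (a ^^^ b)) := by
  have h1 : cls (gW e hF h (mW a) * gW e hF h (mW b) * (gW e hF h (mW (a ^^^ b)))⁻¹) = 1 := by
    rw [map_mul, map_mul, map_inv, ← M.map, ← M.map, ← M.map, ← map_mul, M.mul, mul_inv_cancel]
  have hm : ∀ m, gW e hF h (mW m) ∈ sylGrp e hF h := fun m => plane_le_syl e hF h (gW_mW_mem e hF h m)
  exact mul_inv_eq_one.1 (cls_eq_one e hF h (mul_mem (mul_mem (hm a) (hm b)) (inv_mem (hm _))) h1)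

theorem Mdl.zero (M : Mdl e hF h τ δ c E) : E 0 = 1 := by
  have h1 := M.mul 0 0
  rw [Nat.xor_self] at h1
  exact mul_eq_left.1 h1

theorem Mdl.sq (M : Mdl e hF h τ δ c E) (m : ℕ) : E m * E m = 1 := by
  rw [M.mul, Nat.xor_self, M.zero]

theorem Mdl.inv (M : Mdl e hF h τ δ c E) (m : ℕ) : (E m)⁻¹ = E m :=
  inv_eq_of_mul_eq_one_right (M.sq m)

theorem Mdl.can (M : Mdl e hF h τ δ c E) (m : ℕ) : E (canZ (zOf c) m) = E m := by
  rcases canZ_cases (zOf c) m with h1 | h1 <;> rw [h1]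
  rw [← M.mul, M.z_one, mul_one]

theorem Mdl.inj (M : Mdl e hF h τ δ c E) {a b : ℕ} (ha : a < 2048) (hb : b < 2048) :
    E a = E b ↔ canZ (zOf c) a = canZ (zOf c) b := by
  refine ⟨fun hab => ?_, fun hab => by rw [← M.can a, hab, M.can b]⟩
  have h1 : E (a ^^^ b) = 1 := by rw [← M.mul, hab, M.sq]
  obtain ⟨x, hx⟩ : ∃ x, x = a ^^^ b := ⟨_, rfl⟩
  rw [← hx] at h1
  have hx2 : x < 2048 := hx ▸ xor_lt ha hb
  have hg : gW e hF h (mW x) = 1 := by
    refine cls_eq_one e hF h (plane_le_syl e hF h (gW_mW_mem e hF h x)) ?_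
    rw [← M.map, h1, map_one]
  have hk := List.all_eq_true.1 key_ok.1 x (List.mem_range.2 hx2)
  rw [eqW_of_gW e hF h (w' := []) (isoW_mW x) rfl (hg.trans (gW_nil e hF h).symm)] at hk
  simp only [Bool.not_true, Bool.false_or] at hk
  have hd1 : δ ≠ 1 := fun e1 => by
    have := M.ord; rw [e1, orderOf_one] at this; omega
  have hzd : E (zOf c ^^^ dOf c) = δ := by rw [← M.mul, M.z_one, M.d_eq, one_mul]
  have key : x = 0 ∨ x = zOf c := by
    have hcase : ∀ c < 3, ∀ x ∈ [0, 876, 1310, 1650], x = 0 ∨ x = zOf c ∨ x = dOf c ∨ x = zOf c ^^^ dOf c := by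
      decide +kernel
    rcases hcase c M.lt x (by
      simp only [inK0, Bool.or_eq_true, Nat.beq_eq] at hk
      simp only [List.mem_cons, List.not_mem_nil, or_false]
      exact hk) with r | r | r | r
    · exact Or.inl r
    · exact Or.inr r
    · exact absurd (M.d_eq.symm.trans (r ▸ h1)) hd1
    · exact absurd (hzd.symm.trans (r ▸ h1)) hd1
  have hb' : b = a ^^^ x := by rw [hx, ← Nat.xor_assoc, Nat.xor_self, Nat.zero_xor]
  rcases key with r | r <;> rw [hb', r]
  · rw [Nat.xor_zero]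
  · rw [canZ_flip (zOf_pos M.lt).1]

/-- the plane subgroup -/
def Mdl.A (M : Mdl e hF h τ δ c E) : Subgroup H where
  carrier := {x | ∃ m < 2048, x = E m}
  one_mem' := ⟨0, by norm_num, M.zero.symm⟩
  mul_mem' := by
    rintro _ _ ⟨a, ha, rfl⟩ ⟨b, hb, rfl⟩
    exact ⟨_, xor_lt ha hb, M.mul a b⟩
  inv_mem' := by
    rintro _ ⟨a, ha, rfl⟩
    exact ⟨a, ha, M.inv a⟩

theorem Mdl.mem_A (M : Mdl e hF h τ δ c E) {x : H} : x ∈ M.A ↔ ∃ m < 2048, x = E m := Iff.rfl

theorem canZ_lt {c m : ℕ} (hc : c < 3) (hm : m < 2048) : canZ (zOf c) m < 2048 := by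
  rcases canZ_cases (zOf c) m with h1 | h1 <;> rw [h1]
  · exact hm
  · exact xor_lt hm (zOf_pos hc).2.1

theorem canZ_idem {c : ℕ} (hc : c < 3) (m : ℕ) : canZ (zOf c) (canZ (zOf c) m) = canZ (zOf c) m := by
  rcases canZ_cases (zOf c) m with h1 | h1 <;> rw [h1]
  · rw [h1]
  · rw [canZ_flip (zOf_pos hc).1, h1]

theorem Mdl.mem_A_can (M : Mdl e hF h τ δ c E) {x : H} :
    x ∈ M.A ↔ ∃ m < 2048, canZ (zOf c) m = m ∧ x = E m := by
  refine ⟨fun ⟨m, hm, hx⟩ => ⟨_, canZ_lt M.lt hm, canZ_idem M.lt m, by rw [M.can, hx]⟩,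
    fun ⟨m, hm, _, hx⟩ => ⟨m, hm, hx⟩⟩

/-- Counting a set given by a list of representatives. -/
theorem Mdl.ncard_eq (M : Mdl e hF h τ δ c E) {l : List ℕ} (hl : l.Nodup)
    (hc : ∀ m ∈ l, m < 2048 ∧ canZ (zOf c) m = m) {s : Set H} (hs : ∀ x, x ∈ s ↔ ∃ m ∈ l, x = E m) :
    s.ncard = l.length := by
  classical
  have hs' : s = ↑(l.toFinset.image E) := by
    ext x
    simp only [hs x, Finset.coe_image, List.coe_toFinset, Set.mem_image, Set.mem_setOf_eq]
    exact ⟨fun ⟨m, hm, hx⟩ => ⟨m, hm, hx.symm⟩, fun ⟨m, hm, hx⟩ => ⟨m, hm, hx.symm⟩⟩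
  rw [hs', Set.ncard_coe_finset, Finset.card_image_of_injOn, List.toFinset_card_of_nodup hl]
  intro a ha b hb hab
  simp only [List.coe_toFinset, Set.mem_setOf_eq] at ha hb
  obtain ⟨a1, a2⟩ := hc a ha
  obtain ⟨b1, b2⟩ := hc b hb
  rw [← a2, ← b2]
  exact (M.inj a1 b1).1 hab

theorem elems_count : ((List.range 3).all fun c => Nat.beq
    ((List.range 2048).filter fun m => Nat.beq (canZ (zOf c) m) m).length 1024) = true := by decide +kernel

theorem Mdl.card_A (M : Mdl e hF h τ δ c E) : Nat.card M.A = 1024 := by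
  have h1 := Nat.eq_of_beq_eq_true (List.all_eq_true.1 elems_count c (List.mem_range.2 M.lt))
  rw [← h1, ← M.ncard_eq (List.nodup_range.filter _) (fun m hm => by
    rw [List.mem_filter, List.mem_range, Nat.beq_eq] at hm; exact hm) (s := (M.A : Set H)) fun x => by
      simp only [SetLike.mem_coe, M.mem_A_can, List.mem_filter, List.mem_range, Nat.beq_eq, and_assoc]]
  rfl

theorem Mdl.comm_A (M : Mdl e hF h τ δ c E) {x y : H} (hx : x ∈ M.A) (hy : y ∈ M.A) : x * y = y * x := by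
  obtain ⟨a, -, rfl⟩ := hx
  obtain ⟨b, -, rfl⟩ := hy
  rw [M.mul, M.mul, Nat.xor_comm]

theorem Mdl.elem_A (M : Mdl e hF h τ δ c E) : Cfsg.IsElementaryAbelian 2 M.A := by
  refine ⟨⟨⟨fun a b => Subtype.ext (M.comm_A a.2 b.2)⟩⟩, fun a ha => ?_⟩
  obtain ⟨m, -, rfl⟩ := ha
  rw [pow_two, M.sq]

/-- the Sylow subgroup over the plane subgroup -/
def Mdl.S (_M : Mdl e hF h τ δ c E) : Subgroup H := ((sylGrp e hF h).map cls).comap τ

theorem Mdl.mem_S (M : Mdl e hF h τ δ c E) {x : H} (hx : x ∈ M.S) :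
    ∃ m < 2048, ∃ t < 64, ∃ U, x = E m * U ∧ τ U = cls (gW e hF h (tW t)) := by
  obtain ⟨g, hg, hgx⟩ := hx
  obtain ⟨m, hm, t, ht, rfl⟩ := syl_decomp e hF h hg
  refine ⟨m, hm, t, ht, (E m)⁻¹ * x, by rw [mul_inv_cancel_left], ?_⟩
  rw [map_mul, map_inv, M.map, ← hgx, map_mul, inv_mul_cancel_left]

theorem Mdl.mem_A_of_cls (M : Mdl e hF h τ δ c E) {x : H} {k : ℕ} (hk : k < 2048)
    (hx : τ x = cls (gW e hF h (mW k))) : x ∈ M.A := by
  have h1 : τ (x * (E k)⁻¹) = 1 := by rw [map_mul, map_inv, M.map, hx, mul_inv_cancel]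
  rw [M.ker] at h1
  rcases h1 with h1 | h1 <;> rw [mul_inv_eq_iff_eq_mul] at h1
  · exact ⟨k, hk, h1.trans (one_mul _)⟩
  · exact ⟨_, xor_lt (zOf_pos M.lt).2.2.1 hk, by rw [h1, ← M.d_eq, M.mul]⟩

theorem Mdl.A_le_S (M : Mdl e hF h τ δ c E) : M.A ≤ M.S := by
  rintro _ ⟨m, -, rfl⟩
  exact ⟨_, plane_le_syl e hF h (gW_mW_mem e hF h m), (M.map m).symm⟩

include hF h in
theorem yKey_of_plane {w : List ℕ} (hw : isoW w = true) (hm : gW e hF h w ∈ planeGrp e hF h plane0) :
    yKey w = yKey [] := by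
  have k3 : ∀ b ∈ [5, 80, 1280], appW w b % 4096 = appW [] b % 4096 := fun b hb => by
    rw [← vec_inj e, ← gW_vec e hF h hw]
    exact plane_fix e hF h hm hb
  simp only [yKey]
  rw [k3 5 (by simp), k3 80 (by simp), k3 1280 (by simp)]

theorem sylGrp_gW (m t : ℕ) : gW e hF h (mW m) * gW e hF h (tW t) ∈ sylGrp e hF h :=
  mul_mem (plane_le_syl e hF h (gW_mW_mem e hF h m)) (gW_tW_mem e hF h t)

/-- Elements of the Sylow subgroup of order two modulo the kernel. -/
theorem Mdl.invol (M : Mdl e hF h τ δ c E) {m t : ℕ} {U : H} (ht : t < 64)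
    (hU : τ U = cls (gW e hF h (tW t))) (h2 : τ (E m * U * (E m * U)) = 1) :
    t = 0 ∨ (t ∈ invT ∧ inK0 (dT t m) = true) ∨ (t ∈ invT ∧ 2048 ≤ m) := by
  rcases Nat.eq_zero_or_pos t with h0 | h0
  · exact Or.inl h0
  refine Or.inr ?_
  obtain ⟨gm, hgm⟩ : ∃ gm, gm = gW e hF h (mW m) := ⟨_, rfl⟩
  obtain ⟨gt, hgt⟩ : ∃ gt, gt = gW e hF h (tW t) := ⟨_, rfl⟩
  have hg2 : gm * gt * (gm * gt) = 1 := by
    refine cls_eq_one e hF h ?_ ?_
    · rw [hgm, hgt]; exact mul_mem (sylGrp_gW m t) (sylGrp_gW m t)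
    · rw [map_mul, map_mul, hgm, hgt, ← M.map, ← hU, ← map_mul, ← map_mul, h2]
  have hc : gt * gm * gt⁻¹ = gW e hF h (mW (selX (tVec t) m)) := by
    have h1 := M.conj _ _ (actOK_root ht) U hU m
    refine mul_inv_eq_one.1 (cls_eq_one e hF h (mul_mem ?_ (inv_mem (plane_le_syl e hF h (gW_mW_mem e hF h _)))) ?_)
    · rw [hgm, hgt]
      exact mul_mem (mul_mem (gW_tW_mem e hF h t) (plane_le_syl e hF h (gW_mW_mem e hF h m)))
        (inv_mem (gW_tW_mem e hF h t))
    · rw [map_mul, map_inv, map_mul, map_mul, map_inv, hgm, hgt, ← M.map, ← hU, ← M.map, ← h1, map_mul,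
        map_mul, map_inv, mul_inv_cancel]
  have hsq : gW e hF h (mW (dT t m)) * (gt * gt) = 1 := by
    show gW e hF h (mW (m ^^^ selX (tVec t) m)) * _ = _
    rw [← cls_xor M, ← hc, ← hgm, ← hg2]
    group
  have hiso : isoW (tW t ++ tW t) = true := by
    simp only [isoW, List.all_append, Bool.and_eq_true]
    exact ⟨isoW_tW t, isoW_tW t⟩
  have hin : gt * gt ∈ planeGrp e hF h plane0 := by
    rw [eq_inv_of_mul_eq_one_right hsq]
    exact inv_mem (gW_mW_mem e hF h _)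
  have hs := List.all_eq_true.1 root_vec_ok t (List.mem_range.2 ht)
  simp only [Bool.and_eq_true, sqOK, Bool.or_eq_true, List.any_eq_true, Nat.beq_eq] at hs
  have htI : t ∈ invT := by
    rcases hs.2 with (r | ⟨x, hx, r⟩) | r
    · omega
    · exact r ▸ hx
    · rw [yKey_of_plane (e := e) (hF := hF) (h := h) hiso (by rw [gW_append, ← hgt]; exact hin)] at r
      simp at r
  rcases Nat.lt_or_ge m 2048 with hm | hm
  · refine Or.inl ⟨htI, ?_⟩
    have h1 := List.all_eq_true.1 inv_ok.2 t htI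
    simp only [Bool.and_eq_true] at h1
    have e1 := gW_eq e hF h (w' := []) hiso rfl h1.2
    rw [gW_append, ← hgt, gW_nil] at e1
    rw [e1, mul_one] at hsq
    have hk := List.all_eq_true.1 key_ok.1 (dT t m) (List.mem_range.2 (xor_lt hm (selX_lt _ _ (actOK_root ht).vec_lt)))
    rw [eqW_of_gW e hF h (w' := []) (isoW_mW _) rfl (hsq.trans (gW_nil e hF h).symm)] at hk
    simpa using hk
  · exact Or.inr ⟨htI, hm⟩

theorem fix_ok (i : ℕ) (hi : i < 27) : fixOK i = true := by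
  rcases Nat.lt_or_ge i 9 with h9 | h9
  · exact List.all_eq_true.1 fix_ok_0 i (List.mem_range'_1.2 ⟨Nat.zero_le _, by omega⟩)
  rcases Nat.lt_or_ge i 18 with h18 | h18
  · exact List.all_eq_true.1 fix_ok_9 i (List.mem_range'_1.2 ⟨h9, by omega⟩)
  · exact List.all_eq_true.1 fix_ok_18 i (List.mem_range'_1.2 ⟨h18, by omega⟩)

theorem fix_mem {t m : ℕ} (ht : t ∈ invT) (hm : m < 2048) (hd : inK0 (dT t m) = true) :
    ∃ i < 27, invT.getD i 0 = t ∧ ∃ s j, (m, s, j) ∈ fixRow i := by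
  obtain ⟨i, hi, rfl⟩ := List.getElem_of_mem ht
  have hi27 : i < 27 := inv_ok.1 ▸ hi
  have hget : invT.getD i 0 = invT[i] := List.getD_eq_getElem _ _ hi
  have h1 := fix_ok i hi27
  simp only [fixOK, forceN_eq] at h1
  have h2 := List.all_eq_true.1 h1 m (List.mem_range.2 hm)
  have hd' : inK0 (dT (invT.getD i 0) m) = true := by rw [hget]; exact hd
  simp only [hd', Bool.not_true, Bool.false_or, bitsL_testBit, List.mem_map] at h2
  obtain ⟨⟨m', s, j⟩, he, rfl⟩ := h2
  exact ⟨i, hi27, hget, s, j, he⟩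

/-- An element of the Sylow subgroup of order two modulo the kernel is conjugate into the plane. -/
theorem Mdl.conj_A (M : Mdl e hF h τ δ c E) {x : H} (hx : x ∈ M.S) (h2 : τ (x * x) = 1) :
    ∃ a : H, a * x * a⁻¹ ∈ M.A := by
  obtain ⟨m, hm, t, ht, U, rfl, hU⟩ := M.mem_S hx
  rcases M.invol ht hU h2 with r | ⟨htI, hd⟩ | ⟨-, hbig⟩
  · subst r
    refine ⟨1, ?_⟩
    rw [one_mul, inv_one, mul_one]
    refine M.mem_A_of_cls hm ?_
    rw [map_mul, M.map, hU, show tW 0 = [] from rfl, gW_nil, map_one, mul_one]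
  · obtain ⟨i, hi, hit, s, j, he⟩ := fix_mem htI hm hd
    have hr := List.all_eq_true.1 red_ok i (List.mem_range.2 hi)
    simp only [Bool.and_eq_true, redOK, repOK, List.all_eq_true, Nat.blt_eq, Nat.beq_eq] at hr
    obtain ⟨⟨⟨-, hs⟩, hj⟩, hk0⟩ := hr.1 _ he
    simp only at hs hj hk0
    obtain ⟨hlen, hrep⟩ := hr.2
    have hmem : (repT.getD i []).getD j (0, 0, 0) ∈ repT.getD i [] := by
      rw [List.getD_eq_getElem _ _ (show j < (repT.getD i []).length by omega)]; exact List.getElem_mem _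
    obtain ⟨⟨⟨hr1, hk⟩, hp⟩, heq⟩ := hrep _ hmem
    generalize (repT.getD i []).getD j (0, 0, 0) = q at *
    obtain ⟨r, p, k⟩ := q
    simp only at hr1 hk hp heq hk0
    rw [hit] at heq hk0
    obtain ⟨P, hP⟩ := M.surj (cls (gW e hF h [p]))
    refine ⟨P * E s, M.mem_A_of_cls hk ?_⟩
    have hyU : E s * (E m * U) * (E s)⁻¹ = E (m ^^^ dT t s) * U := by
      have h1 := M.conj _ _ (actOK_root ht) U hU s
      rw [M.inv, ← mul_assoc, M.mul, mul_assoc, show U * E s = E (selX (tVec t) s) * U by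
        rw [← h1, inv_mul_cancel_right], ← mul_assoc, M.mul, Nat.xor_comm s m, Nat.xor_assoc]
      rfl
    have hk0' : gW e hF h (mW (m ^^^ dT t s)) = gW e hF h (mW r) := by
      have h0 : ∀ k, inK0 k = true → gW e hF h (mW k) = 1 := fun k hk => by
        have he0 : eqW (mW k) [] = true := by
          simp only [inK0, Bool.or_eq_true, Nat.beq_eq] at hk
          obtain ⟨a, b, d⟩ := key_ok.2
          rcases hk with rfl | rfl | rfl | rfl
          exacts [by decide +kernel, a, b, d]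
        rw [gW_eq e hF h (w' := []) (isoW_mW k) rfl he0, gW_nil]
      have hx0 := h0 _ hk0
      rw [show Nat.xor (Nat.xor m (dT t s)) r = (m ^^^ dT t s) ^^^ r from rfl, ← cls_xor M] at hx0
      have hrr : gW e hF h (mW r) * gW e hF h (mW r) = 1 := by
        rw [cls_xor M, Nat.xor_self]; exact gW_nil e hF h
      exact mul_right_cancel (hx0.trans hrr.symm)
    have hiso : isoW [p] = true := by simp [isoW, hp]
    have hisow : isoW ([p] ++ mW r ++ tW t ++ [p]) = true := by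
      simp only [isoW, List.all_append, Bool.and_eq_true]
      exact ⟨⟨⟨hiso, isoW_mW r⟩, isoW_tW t⟩, hiso⟩
    have e2 := gW_eq e hF h hisow (isoW_mW k) heq
    rw [gW_append, gW_append, gW_append] at e2
    have hinv : (gW e hF h [p])⁻¹ = gW e hF h [p] := by
      rw [gW_cons, gW_nil, mul_one]
      exact inv_eq_of_mul_eq_one_right (tv_sq e hF h (by rw [hp]))
    have hall : P * E s * (E m * U) * (P * E s)⁻¹ = P * (E s * (E m * U) * (E s)⁻¹) * P⁻¹ := by group
    rw [hall, hyU, map_mul, map_mul, map_mul, map_inv, hP, M.map, hU, hk0', ← e2, ← map_inv, hinv, map_mul,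
      map_mul, map_mul, mul_assoc (cls (gW e hF h [p])) (cls (gW e hF h (mW r)))]
  · omega

theorem Mdl.isPGroup_S (M : Mdl e hF h τ δ c E) : IsPGroup 2 M.S := by
  refine ((sylGrp_isPGroup e hF h).map cls).comap_of_ker_isPGroup τ fun x => ⟨1, Subtype.ext ?_⟩
  rw [Subgroup.coe_pow, pow_one]
  rcases (M.ker x).1 x.2 with r | r <;> rw [r]
  · exact one_pow _
  · have := pow_orderOf_eq_one δ; rwa [M.ord] at this

theorem Mdl.index_S (M : Mdl e hF h τ δ c E) : ¬ 2 ∣ M.S.index := by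
  intro hd
  rw [Mdl.S, Subgroup.index_comap_of_surjective _ M.surj] at hd
  exact sylGrp_index_odd e hF h
    (hd.trans (Subgroup.index_map_dvd _ (QuotientGroup.mk'_surjective _)))


theorem exists_into_S [Finite H] (M : Mdl e hF h τ δ c E) {B : Subgroup H} (hB : IsPGroup 2 B) :
    ∃ a : H, ∀ x ∈ B, a * x * a⁻¹ ∈ M.S := by
  obtain ⟨P, hP⟩ := hB.exists_le_sylow
  haveI := Fact.mk Nat.prime_two
  obtain ⟨a, ha⟩ := MulAction.exists_smul_eq H P (M.isPGroup_S.toSylow M.index_S)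
  refine ⟨a, fun x hx => ?_⟩
  have h1 : a * x * a⁻¹ ∈ (a • P : Sylow 2 H) := by
    rw [← SetLike.mem_coe, Sylow.coe_smul]
    exact ⟨x, hP hx, rfl⟩
  rw [ha] at h1
  exact h1

/-- Involutions, and elements of order four with square in the kernel, are conjugate into the plane. -/
theorem Mdl.conj_A' [Finite H] (M : Mdl e hF h τ δ c E) {x : H} (h2 : x * x = 1 ∨ x * x = δ) :
    ∃ a : H, a * x * a⁻¹ ∈ M.A := by
  have hx4 : x ^ 2 ^ 2 = 1 := by
    rw [show 2 ^ 2 = 2 * 2 from rfl, pow_mul, pow_two x]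
    rcases h2 with r | r <;> rw [r]
    · exact one_pow _
    · have := pow_orderOf_eq_one δ; rwa [M.ord] at this
  have hB : IsPGroup 2 (Subgroup.zpowers x) := by
    obtain ⟨k, -, hk⟩ := (Nat.dvd_prime_pow Nat.prime_two).1 (orderOf_dvd_of_pow_eq_one hx4)
    exact IsPGroup.of_card ((Nat.card_zpowers x).trans hk)
  obtain ⟨a, ha⟩ := exists_into_S M hB
  have hy := ha x (Subgroup.mem_zpowers x)
  obtain ⟨b, hb⟩ := M.conj_A hy (by
    rw [show a * x * a⁻¹ * (a * x * a⁻¹) = a * (x * x) * a⁻¹ by group, map_mul, map_mul,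
      (M.ker (x * x)).2 h2, mul_one, ← map_mul, mul_inv_cancel, map_one])
  exact ⟨b * a, by rw [show b * a * x * (b * a)⁻¹ = b * (a * x * a⁻¹) * b⁻¹ by group]; exact hb⟩

/-- The plane subgroup is the only elementary abelian subgroup of its order in the Sylow subgroup. -/
theorem Mdl.unique [Finite H] (M : Mdl e hF h τ δ c E) {B : Subgroup H} (hB : B ≤ M.S)
    (hel : Cfsg.IsElementaryAbelian 2 B) (hcard : 1024 ≤ Nat.card B) : B = M.A := by
  classical
  haveI : Fintype B := Fintype.ofFinite B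
  choose m hm t ht U hxU hU using fun b : B => M.mem_S (hB b.2)
  have hsq : ∀ b : B, τ (E (m b) * U b * (E (m b) * U b)) = 1 := fun b => by
    rw [← hxU b, ← pow_two, hel.2 _ b.2, map_one]
  have htI : ∀ b : B, t b ∈ insert 0 invT.toFinset := fun b => by
    rcases M.invol (ht b) (hU b) (hsq b) with r | ⟨r, -⟩ | ⟨r, -⟩
    · simp [r]
    · simp [r]
    · simp [r]
  obtain ⟨T, hT⟩ : ∃ T : Finset ℕ, T = Finset.univ.image t := ⟨_, rfl⟩
  have hT28 : T.card ≤ 28 := by
    refine (Finset.card_le_card (t := insert 0 invT.toFinset) ?_).trans ((Finset.card_insert_le _ _).trans ?_)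
    · intro x hx
      rw [hT, Finset.mem_image] at hx
      obtain ⟨b, -, rfl⟩ := hx
      exact htI b
    · have := List.toFinset_card_le invT
      rw [inv_ok.1] at this
      omega
  obtain ⟨B0, hB0⟩ : ∃ B0 : Subgroup H, B0 = B ⊓ M.A := ⟨_, rfl⟩
  have hprod : Nat.card B ≤ T.card * Nat.card B0 := by
    have hin : ∀ b : B, t b ∈ T := fun b => by rw [hT]; exact Finset.mem_image_of_mem _ (Finset.mem_univ b)
    choose rep hrep using fun x : T => (show ∃ b : B, t b = x.1 by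
      have := x.2; simp only [hT, Finset.mem_image] at this
      obtain ⟨b, -, hb⟩ := this; exact ⟨b, hb⟩)
    have hq : ∀ b b' : B, t b = t b' → (b : H) * (b' : H)⁻¹ ∈ B0 := fun b b' hbb => by
      rw [hB0]
      refine Subgroup.mem_inf.2 ⟨B.mul_mem b.2 (B.inv_mem b'.2), M.mem_A_of_cls (xor_lt (hm b) (hm b')) ?_⟩
      rw [hxU b, hxU b', map_mul, map_inv, map_mul, map_mul, hU, hU, hbb, _root_.mul_inv_rev, mul_assoc,
        mul_inv_cancel_left, ← map_inv, M.inv, ← map_mul, M.mul, M.map]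
    let f : B → T × B0 := fun b => (⟨t b, hin b⟩, ⟨(b : H) * (rep ⟨t b, hin b⟩ : H)⁻¹,
      hq b _ (hrep ⟨t b, hin b⟩).symm⟩)
    have hf : Function.Injective f := by
      intro a b hab
      have h1 : (⟨t a, hin a⟩ : T) = ⟨t b, hin b⟩ := congrArg Prod.fst hab
      have h2 := congrArg (fun z => (z.2 : H)) hab
      simp only [f, h1] at h2
      exact Subtype.ext (mul_right_cancel h2)
    have := Nat.card_le_card_of_injective f hf
    simpa [Nat.card_prod] using this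
  -- fixed vectors
  have hfix : ∀ b : B, t b ≠ 0 → ∃ i < 27, invT.getD i 0 = t b ∧
      ∀ x ∈ B0, ∃ k ∈ fixZ (zOf c) i, x = E k := by
    intro b hb0
    have htb : t b ∈ invT := by simpa [hb0] using htI b
    obtain ⟨i0, hi0, hi0e⟩ := List.getElem_of_mem htb
    refine ⟨i0, inv_ok.1 ▸ hi0, by rw [List.getD_eq_getElem _ _ hi0, hi0e], fun x hx => ?_⟩
    rw [hB0] at hx
    obtain ⟨k, hk, hkc, rfl⟩ := M.mem_A_can.1 hx.2
    refine ⟨k, ?_, rfl⟩
    have hcomm : (b : H) * E k * (b : H)⁻¹ = E k := by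
      have h3 : (b : H) * E k = E k * (b : H) := congrArg Subtype.val (hel.1.is_comm.comm b ⟨E k, hx.1⟩)
      rw [h3]
      exact mul_inv_cancel_right _ _
    have h4 : E (selX (tVec (t b)) k) = E k := by
      rw [hxU b, show E (m b) * U b * E k * (E (m b) * U b)⁻¹ = E (m b) * (U b * E k * (U b)⁻¹) * (E (m b))⁻¹
        by group, M.conj _ _ (actOK_root (ht b)) _ (hU b)] at hcomm
      rw [M.inv, M.mul, M.mul, Nat.xor_comm (m b), Nat.xor_assoc, Nat.xor_self, Nat.xor_zero] at hcomm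
      exact hcomm
    have hdlt : dT (t b) k < 2048 := xor_lt hk (selX_lt _ _ (actOK_root (ht b)).vec_lt)
    have hz : inZ (zOf c) (dT (t b) k) = true := by
      have h5 : E (dT (t b) k) = E 0 := by
        show E (k ^^^ selX (tVec (t b)) k) = _
        rw [← M.mul, h4, M.sq, M.zero]
      have h6 := (M.inj hdlt (by norm_num)).1 h5
      rw [show canZ (zOf c) 0 = 0 from rfl] at h6
      simp only [inZ, Bool.or_eq_true, Nat.beq_eq]
      rcases canZ_cases (zOf c) (dT (t b) k) with r | r <;> rw [r] at h6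
      · exact Or.inl h6
      · exact Or.inr (Nat.xor_eq_zero_iff.1 h6)
    have hz0 : inK0 (dT (t b) k) = true := by
      simp only [inZ, Bool.or_eq_true, Nat.beq_eq] at hz
      rcases hz with r | r <;> rw [r]
      · rfl
      · exact (zOf_pos M.lt).2.2.2.1
    have hmem := fix_ok i0 (inv_ok.1 ▸ hi0)
    simp only [fixOK, forceN_eq, List.getD_eq_getElem _ _ hi0, hi0e] at hmem
    have h7 := List.all_eq_true.1 hmem k (List.mem_range.2 hk)
    rw [hz0, Bool.not_true, Bool.false_or, bitsL_testBit, List.mem_map] at h7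
    obtain ⟨q, hq, rfl⟩ := h7
    refine List.mem_map.2 ⟨q, List.mem_filter.2 ⟨hq, ?_⟩, rfl⟩
    rw [List.getD_eq_getElem _ _ hi0, hi0e, hz, hkc]
    simp
  have hle : ∀ {l : List ℕ}, (∀ x ∈ B0, ∃ k ∈ l, x = E k) → Nat.card B0 ≤ l.length := by
    intro l hl
    choose g hg hge using fun x : B0 => hl x.1 x.2
    let f : B0 → {k // k ∈ l.toFinset} := fun x => ⟨g x, List.mem_toFinset.2 (hg x)⟩
    have hf : Function.Injective f := fun a b hab => Subtype.ext (by
      rw [hge a, hge b, show g a = g b from congrArg Subtype.val hab])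
    refine (Nat.card_le_card_of_injective f hf).trans ?_
    simp only [Nat.card_eq_fintype_card, Fintype.card_coe]
    exact List.toFinset_card_le l
  by_cases hz : ∀ b : B, t b = 0
  · refine Subgroup.eq_of_le_of_card_ge (fun x hx => ?_) (by rw [M.card_A]; exact hcard)
    refine M.mem_A_of_cls (hm ⟨x, hx⟩) ?_
    have := congrArg τ (hxU ⟨x, hx⟩)
    rw [map_mul, M.map, hU, hz, show tW 0 = [] from rfl, gW_nil, map_one, mul_one] at this
    exact this
  push Not at hz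
  obtain ⟨b, hb⟩ := hz
  obtain ⟨i, hi, hit, hfi⟩ := hfix b hb
  have hbd := List.all_eq_true.1 (List.all_eq_true.1 bound_ok c (List.mem_range.2 M.lt)) i (List.mem_range.2 hi)
  simp only [forceN_eq, Bool.and_eq_true, Nat.ble_eq] at hbd
  have h64 := (hle hfi).trans hbd.1
  have h16 : 16 ≤ T.card := by
    by_contra hlt
    push Not at hlt
    have := Nat.mul_le_mul (Nat.le_of_lt_succ hlt) h64
    omega
  obtain ⟨x, hxT, hx1, hx2⟩ : ∃ x ∈ T, x ≠ 0 ∧ x ≠ t b := by
    by_contra hno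
    push Not at hno
    have : T ⊆ ({0, t b} : Finset ℕ) := fun x hx => by
      rcases eq_or_ne x 0 with r | r
      · simp [r]
      · simp [hno x hx r]
    have := (Finset.card_le_card this).trans Finset.card_le_two
    omega
  rw [hT, Finset.mem_image] at hxT
  obtain ⟨b', -, rfl⟩ := hxT
  obtain ⟨j, hj, hjt, hfj⟩ := hfix b' hx1
  have hij : i ≠ j := fun r => hx2 (by rw [← hit, ← hjt, r])
  have h32 : Nat.card B0 ≤ 32 := by
    obtain ⟨p, q, hpq, hq27, hfp, hfq⟩ : ∃ p q, p < q ∧ q < 27 ∧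
        (∀ x ∈ B0, ∃ k ∈ fixZ (zOf c) p, x = E k) ∧ ∀ x ∈ B0, ∃ k ∈ fixZ (zOf c) q, x = E k := by
      rcases Nat.lt_or_gt_of_ne hij with r | r
      · exact ⟨i, j, r, hj, hfi, hfj⟩
      · exact ⟨j, i, r, hi, hfj, hfi⟩
    have hb2 := List.all_eq_true.1 (List.all_eq_true.1 bound_ok c (List.mem_range.2 M.lt)) q (List.mem_range.2 hq27)
    simp only [forceN_eq, Bool.and_eq_true, List.all_eq_true, Nat.ble_eq, List.mem_range] at hb2
    refine (hle fun x hx => ?_).trans (hb2.2 p hpq)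
    obtain ⟨k, hk, rfl⟩ := hfp x hx
    obtain ⟨k', hk', hkk⟩ := hfq _ hx
    refine ⟨k, List.mem_filter.2 ⟨hk, ?_⟩, rfl⟩
    have hgood : ∀ {r k}, r < 27 → k ∈ fixZ (zOf c) r → k < 2048 ∧ canZ (zOf c) k = k := by
      intro r k hr hkr
      obtain ⟨y, hy, rfl⟩ := List.mem_map.1 hkr
      rw [List.mem_filter, Bool.and_eq_true, Nat.beq_eq] at hy
      have hr1 := List.all_eq_true.1 red_ok r (List.mem_range.2 hr)
      simp only [Bool.and_eq_true, redOK, List.all_eq_true, Nat.blt_eq] at hr1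
      exact ⟨(hr1.1 y hy.1).1.1.1, hy.2.2⟩
    obtain ⟨a1, a2⟩ := hgood (hpq.trans hq27) hk
    obtain ⟨b1, b2⟩ := hgood hq27 hk'
    have he := (M.inj a1 b1).1 hkk
    rw [a2, b2] at he
    rw [bitsL_testBit, he]
    exact hk'
  have := Nat.mul_le_mul hT28 h32
  omega

end CfsgLib.KnownB.U62Thompson
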